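import Cfsg.Agent.Lib.Maximal99.OrthSelfAdj.Model
import Cfsg.Agent.Lib.Maximal99.OrderR
import Cfsg.Agent.Lib.Orth.Omega
import Cfsg.Agent.Lib.QuadFin.Gram
import Cfsg.Agent.Lib.ClassicalGroups.OrthCard

/-!
The primes dividing the index of the normaliser of a self-adjoint quadratic field subalgebra in `Ω(Q)`.
-/

set_option autoImplicit false

namespace CfsgLib.OrthSelfAdj

open Module Matrix QuadraticMap CfsgLib.Orth

section pairs

variable {L : Type*} [Field L] {k : ℕ}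

/-- Two squares as a product. -/
noncomputable def pairEquiv (j ζ : L) (hj : j * j = -1) (hζ : ζ ≠ 0) (h2 : (2 : L) ≠ 0) :
    (Fin k ⊕ Fin k → L) ≃ₗ[L] (Fin k ⊕ Fin k → L) where
  toFun v := Sum.elim (fun i => ζ * (v (.inl i) + j * v (.inr i))) (fun i => v (.inl i) - j * v (.inr i))
  map_add' u v := by funext s; rcases s with i | i <;> simp <;> ring
  map_smul' c v := by funext s; rcases s with i | i <;> simp <;> ring
  invFun w := Sum.elim (fun i => (w (.inl i) / ζ + w (.inr i)) / 2) (fun i => (w (.inl i) / ζ - w (.inr i)) / (2 * j))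
  left_inv v := by
    have hj0 : j ≠ 0 := fun h => by simp [h] at hj
    funext s
    rcases s with i | i <;> simp only [Sum.elim_inl, Sum.elim_inr] <;> field_simp <;> ring
  right_inv w := by
    have hj0 : j ≠ 0 := fun h => by simp [h] at hj
    funext s
    rcases s with i | i <;> simp only [Sum.elim_inl, Sum.elim_inr] <;> field_simp <;> ring

lemma pairEquiv_value (j ζ : L) (hj : j * j = -1) (hζ : ζ ≠ 0) (h2 : (2 : L) ≠ 0) (v : Fin k ⊕ Fin k → L) :
    Cfsg.quadFormPlus k L (pairEquiv j ζ hj hζ h2 v) = ζ * ∑ s, v s ^ 2 := by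
  simp only [Cfsg.quadFormPlus, pairEquiv, LinearEquiv.coe_mk, LinearMap.coe_mk, AddHom.coe_mk, Sum.elim_inl,
    Sum.elim_inr, Fintype.sum_sum_type, ← Finset.sum_add_distrib, Finset.mul_sum]
  exact Finset.sum_congr rfl fun i _ => by linear_combination (-ζ * v (.inr i) ^ 2) * hj

end pairs

section arith

lemma prod_split {M : Type*} [CommMonoid M] (f : ℕ → M) : ∀ k,
    (∏ i ∈ Finset.range (2 * k), f (i + 1) = (∏ i ∈ Finset.range k, f (2 * i + 1)) * ∏ i ∈ Finset.range k, f (2 * (i + 1))) ∧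
    ∏ i ∈ Finset.range (2 * k + 1), f (i + 1) =
      (∏ i ∈ Finset.range (k + 1), f (2 * i + 1)) * ∏ i ∈ Finset.range k, f (2 * (i + 1)) := by
  intro k
  induction k with
  | zero => simp
  | succ k ih =>
    constructor
    · rw [show 2 * (k + 1) = 2 * k + 1 + 1 by ring, Finset.prod_range_succ, ih.2,
        Finset.prod_range_succ (fun i => f (2 * (i + 1))), show 2 * (k + 1) = 2 * k + 1 + 1 by ring, mul_assoc]
    · rw [Finset.prod_range_succ, show 2 * (k + 1) = 2 * k + 1 + 1 by ring, Finset.prod_range_succ _ (2 * k + 1), ih.2,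
        Finset.prod_range_succ (fun i => f (2 * i + 1)) (k + 1), Finset.prod_range_succ (fun i => f (2 * (i + 1))),
        show 2 * (k + 1) = 2 * k + 1 + 1 by ring]
      simp only [mul_assoc, mul_comm, mul_left_comm]

lemma exists_half {q r j : ℕ} [Fact r.Prime] (hq : 1 ≤ q) (hj : Odd j) (hdvd : r ∣ q ^ (2 * j) - 1)
    (hqr : (q : ZMod r) ≠ 0) :
    ∃ h, Odd h ∧ h ≤ j ∧ (orderOf (q : ZMod r) = h ∨ (orderOf (q : ZMod r) = 2 * h ∧ (q : ZMod r) ^ h = -1)) := by
  set o := orderOf (q : ZMod r) with ho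
  have ho0 : 0 < o := orderOf_pos_iff.2 (isOfFinOrder_iff_pow_eq_one.2
    ⟨r - 1, by have := (Fact.out : r.Prime).two_le; omega, ZMod.pow_card_sub_one_eq_one hqr⟩)
  have hd : o ∣ 2 * j := (CfsgLib.OrderR.orderOf_dvd_iff hq).2 hdvd
  rcases Nat.even_or_odd o with he | he
  · obtain ⟨h, hh⟩ := he.two_dvd
    have hhj : h ∣ j := Nat.dvd_of_mul_dvd_mul_left two_pos (hh ▸ hd)
    refine ⟨h, Odd.of_dvd_nat hj hhj, Nat.le_of_dvd hj.pos hhj, Or.inr ⟨hh, ?_⟩⟩
    have h1 : ((q : ZMod r) ^ h) ^ 2 = 1 := by rw [← pow_mul, mul_comm, ← hh, ho, pow_orderOf_eq_one]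
    refine (sq_eq_one_iff.1 h1).resolve_left fun h' => ?_
    have := Nat.le_of_dvd (by omega) (orderOf_dvd_of_pow_eq_one h')
    omega
  · have hoj : o ∣ j := (Nat.coprime_two_right.2 he).dvd_of_dvd_mul_left hd
    exact ⟨o, he, Nat.le_of_dvd hj.pos hoj, Or.inl rfl⟩

end arith

variable {F : Type*} [Field F] [Fintype F] {ι : Type} [Fintype ι] [DecidableEq ι]

open scoped Classical in
/-- An orthogonal group over the extension field inside the normaliser. -/
theorem card_dvd_normalizer [Nonempty ι] (h2 : (2 : F) ≠ 0) {Q : QuadraticForm F (ι → F)}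
    {K : Subalgebra F (Matrix ι ι F)} (hK : Cfsg.Geo.IsFieldSubalgebra 2 K) {τ : Matrix ι ι F} {δ : F}
    (hM : IsModel K Q.polarBilin τ δ) {m : ℕ} {u : Fin (m + 1) → ι → F}
    (b : Basis (Fin 2 × Fin (m + 1)) F (ι → F))
    (hb : ∀ i, b (0, i) = u i ∧ b (1, i) = τ *ᵥ u i)
    (ho : ∀ i j, i ≠ j → Q.polarBilin (u i) (u j) = 0 ∧ Q.polarBilin (u i) (τ *ᵥ u j) = 0)
    {c e : F} (hv : ∀ i, Q.polarBilin (u i) (u i) = (if i = Fin.last m then c else 0) ∧
      Q.polarBilin (u i) (τ *ᵥ u i) = if i = Fin.last m then e else 1)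
    {ν κ : Type} [Fintype ν] [Fintype κ] [DecidableEq κ] (σ : ν ≃ Fin (m + 1)) (v₀ : ν) (hσ : σ v₀ = Fin.last m) :
    letI : Field K := CfsgLib.Geo.FieldTransvection.fieldOf hK
    ∀ (S : (κ → K) → K) (ψ : (ν → K) ≃ₗ[K] (κ → K)) (ζ : K), ζ ≠ 0 →
      (∀ k : ν → K, S (ψ k) = ζ * ∑ i, (if i = v₀ then e • (1 : K) + c • ⟨τ, hM.mem⟩ else 1) * k i ^ 2) →
      Nat.card (Cfsg.isometryGroup K S) ∣ Nat.card ↥((Cfsg.Geo.subalgebraNormalizer K).subgroupOf (O Q)) := by
  letI : Field K := CfsgLib.Geo.FieldTransvection.fieldOf hK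
  intro S ψ ζ hζ hS
  haveI : FiniteDimensional F K := Module.finite_of_finrank_pos (by rw [hK.finrank_eq]; norm_num)
  set B := Q.polarBilin with hB
  set τK : K := ⟨τ, hM.mem⟩ with hτK
  have hli : LinearIndependent F ![(1 : K), τK] := LinearIndependent.pair_iff.2 fun s t hst =>
    coeff_eq_zero hM.nonsq hM.mul_self (congrArg Subtype.val hst)
  let bK : Basis (Fin 2) F K := Basis.mk hli (hli.span_eq_top_of_card_eq_finrank' (by simp [hK.finrank_eq])).ge
  let Λ : K →ₗ[F] F := bK.coord 1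
  have hrepr : ∀ k : K, k = bK.coord 0 k • (1 : K) + bK.coord 1 k • τK := fun k => by
    have h := bK.sum_repr k
    rw [Fin.sum_univ_two] at h
    conv_lhs => rw [← h]
    simp [bK]
  have hΛ : ∀ α β : F, Λ (α • (1 : K) + β • τK) = β := fun α β => by
    have h0 : bK 0 = 1 := by simp [bK]
    have h1 : bK 1 = τK := by simp [bK]
    show bK.coord 1 _ = β
    rw [← h0, ← h1, map_add, map_smul, map_smul, Basis.coord_apply, Basis.coord_apply, Basis.repr_self, Basis.repr_self]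
    simp
  have hττ : τK * τK = δ • (1 : K) := Subtype.ext hM.mul_self
  -- the coordinates
  let Φ : (ν → K) →ₗ[F] (ι → F) :=
    { toFun := fun k => ∑ i, (k i).1 *ᵥ u (σ i)
      map_add' := fun k l => by simp [Matrix.add_mulVec, Finset.sum_add_distrib]
      map_smul' := fun t k => by simp [Matrix.smul_mulVec, Finset.smul_sum] }
  have hΦ : ∀ k, Φ k = ∑ i, (k i).1 *ᵥ u (σ i) := fun k => rfl
  have hsurj : Function.Surjective Φ := fun y => by
    refine ⟨fun i => b.repr y (0, σ i) • (1 : K) + b.repr y (1, σ i) • τK, ?_⟩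
    rw [hΦ]
    have hy := b.sum_repr y
    rw [Fintype.sum_prod_type_right] at hy
    conv_rhs => rw [← hy]
    refine Fintype.sum_equiv σ _ _ fun i => ?_
    simp [Matrix.add_mulVec, Matrix.smul_mulVec, (hb (σ i)).1, (hb (σ i)).2, hτK, Fin.sum_univ_two]
  have hcard : Fintype.card ν = m + 1 := by simpa using Fintype.card_congr σ
  have hdim : finrank F (ν → K) = finrank F (ι → F) := by
    rw [Module.finrank_pi_fintype, finrank_eq_card_basis b]
    simp [hK.finrank_eq, hcard, mul_comm]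
  let ev : (ν → K) ≃ₗ[F] (ι → F) := LinearEquiv.ofBijective Φ
    ⟨(LinearMap.injective_iff_surjective_of_finrank_eq_finrank hdim).2 hsurj, hsurj⟩
  have hev : ∀ k, ev k = Φ k := fun k => rfl
  let z : ν → K := fun i => if i = v₀ then e • (1 : K) + c • τK else 1
  have hline : ∀ (i : ν) (k : K), B (u (σ i)) (k.1 *ᵥ u (σ i)) = Λ (z i * k) := by
    intro i k
    rw [hrepr k]
    set α := bK.coord 0 k
    set β := bK.coord 1 k
    have hz : z i = (if i = v₀ then e else 1) • (1 : K) + (if i = v₀ then c else 0) • τK := by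
      by_cases h : i = v₀ <;> simp [z, h]
    have hmul : z i * (α • (1 : K) + β • τK) =
        ((if i = v₀ then e else 1) * α + (if i = v₀ then c else 0) * β * δ) • (1 : K) +
          ((if i = v₀ then e else 1) * β + (if i = v₀ then c else 0) * α) • τK := by
      rw [hz]
      simp only [add_mul, mul_add, smul_mul_assoc, mul_smul_comm, one_mul, mul_one, hττ, smul_smul]
      module
    rw [hmul, hΛ]
    have hiff : σ i = Fin.last m ↔ i = v₀ := by rw [← hσ, σ.apply_eq_iff_eq]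
    obtain ⟨h1, h2'⟩ := hv (σ i)
    simp only [Subalgebra.coe_add, Subalgebra.coe_smul, Subalgebra.coe_one, hτK, Matrix.add_mulVec, Matrix.smul_mulVec,
      Matrix.one_mulVec, map_add, map_smul, smul_eq_mul, h1, h2', hiff]
    ring
  have hadj : ∀ (k : K) x y, B (k.1 *ᵥ x) y = B x (k.1 *ᵥ y) := by
    intro k x y
    have hτadj : B (τ *ᵥ x) y = B x (τ *ᵥ y) := hM.isSA.adj x y
    obtain ⟨α, β, h⟩ := (hM.mem_iff _).1 k.2
    simp only [h, Matrix.add_mulVec, Matrix.smul_mulVec, Matrix.one_mulVec, map_add, map_smul, LinearMap.add_apply,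
      LinearMap.smul_apply, hτadj]
  have hcross : ∀ i j : ν, i ≠ j → ∀ k : K, B (u (σ i)) (k.1 *ᵥ u (σ j)) = 0 := by
    intro i j hij k
    obtain ⟨α, β, h⟩ := (hM.mem_iff _).1 k.2
    obtain ⟨h1, h2'⟩ := ho (σ i) (σ j) (σ.injective.ne hij)
    simp [h, Matrix.add_mulVec, Matrix.smul_mulVec, map_add, map_smul, h1, h2']
  have hval : ∀ k : ν → K, B (Φ k) (Φ k) = Λ (ζ⁻¹ * S (ψ k)) := by
    intro k
    rw [hS, inv_mul_cancel_left₀ hζ, map_sum, hΦ, LinearMap.map_sum₂]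
    refine Finset.sum_congr rfl fun i _ => ?_
    rw [map_sum, Finset.sum_eq_single i]
    · rw [hadj, Matrix.mulVec_mulVec, ← Subalgebra.coe_mul, hline, pow_two]
    · intro j _ hji
      rw [hadj, Matrix.mulVec_mulVec, ← Subalgebra.coe_mul]
      exact hcross i j (Ne.symm hji) _
    · simp
  have hτΦ : ∀ k, τ *ᵥ Φ k = Φ (τK • k) := fun k => by
    simp [hΦ, Matrix.mulVec_sum, Matrix.mulVec_mulVec, hτK]
  -- the embedding
  let Ψ : Cfsg.isometryGroup K S →* Matrix ι ι F :=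
    { toFun := fun g => LinearMap.toMatrix' (ev.toLinearMap ∘ₗ
        ((ψ.symm.toLinearMap ∘ₗ Matrix.toLin' ((g : GL κ K) : Matrix κ κ K) ∘ₗ ψ.toLinearMap).restrictScalars F) ∘ₗ
        ev.symm.toLinearMap)
      map_one' := by
        rw [← LinearMap.toMatrix'_id]; congr 1; exact LinearMap.ext fun v => by simp
      map_mul' := fun g g' => by
        rw [← LinearMap.toMatrix'_comp]; congr 1
        exact LinearMap.ext fun v => by simp [Matrix.mulVec_mulVec] }
  have hΨ : ∀ g k, Ψ g *ᵥ Φ k = Φ (ψ.symm (((g : GL κ K) : Matrix κ κ K) *ᵥ ψ k)) := fun g k => by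
    show LinearMap.toMatrix' _ *ᵥ _ = _
    rw [LinearMap.toMatrix'_mulVec]
    show Φ (ψ.symm (((g : GL κ K) : Matrix κ κ K) *ᵥ ψ (ev.symm (ev k)))) = _
    rw [ev.symm_apply_apply]
  have hiso : ∀ g, Ψ.toHomUnits g ∈ Cfsg.isometryGroup F ⇑Q := by
    intro g w _
    obtain ⟨k, rfl⟩ := hsurj w
    show Q (Ψ g *ᵥ Φ k) = Q (Φ k)
    refine mul_left_cancel₀ h2 ?_
    rw [← polar_self', ← polar_self', hΨ]
    show B _ _ = B _ _
    rw [hval, hval, ψ.apply_symm_apply]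
    congr 2
    exact g.2 (ψ k) (ψ k)
  let f : Cfsg.isometryGroup K S →* O Q := Ψ.toHomUnits.codRestrict _ hiso
  have hf : ∀ g, f g ∈ (Cfsg.Geo.subalgebraNormalizer K).subgroupOf (O Q) := fun g => by
    rw [Subgroup.mem_subgroupOf, hM.mem_normalizer h2]
    refine ⟨1, one_mul 1, fun w => ?_⟩
    obtain ⟨k, rfl⟩ := hsurj w
    show Ψ g *ᵥ (τ *ᵥ Φ k) = (1 : F) • (τ *ᵥ (Ψ g *ᵥ Φ k))
    rw [one_smul, hτΦ, hΨ, hΨ, hτΦ, map_smul, Matrix.mulVec_smul, map_smul]
  refine Subgroup.card_dvd_of_injective (f.codRestrict _ hf) fun g g' hgg => ?_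
  have h0 : Ψ g = Ψ g' := congrArg (fun y : ↥((Cfsg.Geo.subalgebraNormalizer K).subgroupOf (O Q)) => ((y.1 : GL ι F) : Matrix ι ι F)) hgg
  refine Subtype.ext (Units.ext (Matrix.toLin'.injective (LinearMap.ext fun v => ?_)))
  obtain ⟨k, rfl⟩ := ψ.surjective v
  have h := congrArg (fun M => M *ᵥ Φ k) h0
  simp only [hΨ] at h
  rw [Matrix.toLin'_apply, Matrix.toLin'_apply]
  exact ψ.symm.injective ((LinearMap.injective_iff_surjective_of_finrank_eq_finrank hdim).2 hsurj h)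

set_option maxHeartbeats 1600000 in
/-- A prime `r ≠ 2, p` dividing the index gives `q` an order `h` or `2 h` modulo `r` with `h` odd, `h ≤ d`. -/
theorem exists_half_of_index [Nonempty ι] [DecidableEq F] {p q : ℕ} [Fact p.Prime] [CharP F p] (hq : Fintype.card F = q)
    (hodd : Odd q) (h2 : (2 : F) ≠ 0) {Q : QuadraticForm F (ι → F)} (hQ : Q.polarBilin.Nondegenerate)
    {K : Subalgebra F (Matrix ι ι F)} (hK : Cfsg.Geo.IsFieldSubalgebra 2 K) {τ : Matrix ι ι F} {δ : F}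
    (hM : IsModel K Q.polarBilin τ δ) {m : ℕ} (hm : 1 ≤ m) (hcard : Fintype.card ι = 2 * (m + 1))
    (hsign : (IsSquare ((-1 : F) ^ (m + 1) * (CfsgLib.QuadFin.gram ⇑Q).det) ∧
        Nat.card (O Q) = 2 * q ^ ((m + 1) * m) * (q ^ (m + 1) - 1) * ∏ i ∈ Finset.range m, (q ^ (2 * (i + 1)) - 1)) ∨
      (¬ IsSquare ((-1 : F) ^ (m + 1) * (CfsgLib.QuadFin.gram ⇑Q).det) ∧
        Nat.card (O Q) = 2 * q ^ ((m + 1) * m) * (q ^ (m + 1) + 1) * ∏ i ∈ Finset.range m, (q ^ (2 * (i + 1)) - 1)))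
    {r : ℕ} [Fact r.Prime] (hr2 : r ≠ 2) (hrp : r ≠ p)
    (hΩ : r ∣ (Cfsg.Geo.subalgebraNormalizer K).relIndex (Cfsg.Geo.omegaGL ⇑Q)) :
    ∃ h, Odd h ∧ h ≤ m + 1 ∧ (orderOf (q : ZMod r) = h ∨ (orderOf (q : ZMod r) = 2 * h ∧ (q : ZMod r) ^ h = -1)) := by
  classical
  have hr : r.Prime := Fact.out
  have hq1 : 1 ≤ q := hodd.pos
  have hrq : (q : ZMod r) ≠ 0 := CfsgLib.OrderR.natCast_ne_zero_of_card hq hrp
  -- the index
  obtain ⟨d₀, hd₀⟩ : ∃ d : F, ¬ IsSquare d := ⟨δ, hM.nonsq⟩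
  set N := (Cfsg.Geo.subalgebraNormalizer K).subgroupOf (O Q) with hN
  set Ω : Subgroup (O Q) := Cfsg.Omega F ⇑Q with hΩdef
  have hi : r ∣ N.relIndex Ω := by
    rw [hN, Subgroup.subgroupOf, Subgroup.relIndex_comap]; exact hΩ
  haveI : Ω.Normal := by rw [hΩdef]; exact (inferInstance : (commutator (O Q)).Normal)
  have hΩ4 : Ω.index = 4 := index_commutator hQ h2 hd₀ (by omega)
  have hk4 : Ω.relIndex N ∣ 4 := hΩ4 ▸ Subgroup.relIndex_dvd_index_of_normal Ω N
  have hO : Nat.card (O Q) = 4 * (N.relIndex Ω * Nat.card ↥(N ⊓ Ω)) := by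
    rw [← Ω.index_mul_card, hΩ4]
    congr 1
    rw [← Subgroup.inf_relIndex_right]
    have h := Subgroup.card_mul_index ((N ⊓ Ω).subgroupOf Ω)
    rw [Nat.card_congr (Subgroup.subgroupOfEquivOfLe (inf_le_right : N ⊓ Ω ≤ Ω)).toEquiv] at h
    rw [← h, mul_comm]
    rfl
  have hcN : Nat.card N = Nat.card ↥(N ⊓ Ω) * Ω.relIndex N := by
    have h := Subgroup.card_mul_index ((N ⊓ Ω).subgroupOf N)
    rw [Nat.card_congr (Subgroup.subgroupOfEquivOfLe (inf_le_left : N ⊓ Ω ≤ N)).toEquiv] at h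
    rw [← Subgroup.inf_relIndex_right Ω N, show Ω ⊓ N = N ⊓ Ω from inf_comm _ _]
    exact h.symm
  -- cancelling
  have hkey : ∀ X E R : ℕ, 0 < X → X ∣ Nat.card N → Nat.card (O Q) = X * (q ^ E * R) → r ∣ R := by
    intro X E R hX hXN hXO
    obtain ⟨a, ha⟩ := hi
    obtain ⟨k, hk⟩ := hk4
    have h1 : r * Nat.card N ∣ Nat.card (O Q) := ⟨a * k, by
      rw [hO, hcN, hk, ha]; ring⟩
    have h2' : r * X ∣ X * (q ^ E * R) := hXO ▸ (Nat.mul_dvd_mul_left r hXN).trans h1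
    rw [mul_comm r X] at h2'
    exact (hr.dvd_mul.1 (Nat.dvd_of_mul_dvd_mul_left hX h2')).resolve_left fun h =>
      hrq ((ZMod.natCast_eq_zero_iff q r).2 (hr.dvd_of_dvd_pow h))
  letI : Field K := CfsgLib.Geo.FieldTransvection.fieldOf hK
  haveI : FiniteDimensional F K := Module.finite_of_finrank_pos (by rw [hK.finrank_eq]; norm_num)
  haveI : Finite K := Module.finite_of_finite F
  haveI : Fintype K := Fintype.ofFinite K
  have hcK : Fintype.card K = q ^ 2 := by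
    rw [Module.card_eq_pow_finrank (K := F), hK.finrank_eq, hq]
  have h2K : (2 : K) ≠ 0 := by
    rw [show (2 : K) = algebraMap F K 2 from (map_ofNat _ 2).symm, Ne, map_eq_zero_iff _ (algebraMap F K).injective]
    exact h2
  set τK : K := ⟨τ, hM.mem⟩ with hτK
  have hττ : τK * τK = δ • (1 : K) := Subtype.ext hM.mul_self
  have hδ0 : δ ≠ 0 := fun h => hM.nonsq (h ▸ IsSquare.zero)
  have hcomb : ∀ α β α' β' : F, (α • (1 : K) + β • τK) * (α' • (1 : K) + β' • τK) =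
      (α * α' + δ * β * β') • (1 : K) + (α * β' + β * α') • τK := fun α β α' β' => by
    simp only [add_mul, mul_add, smul_mul_assoc, mul_smul_comm, one_mul, mul_one, hττ, smul_smul]
    module
  obtain ⟨j, hj⟩ : ∃ j : K, j * j = -1 := by
    by_cases hm1 : IsSquare (-1 : F)
    · obtain ⟨i, hi⟩ := hm1
      exact ⟨algebraMap F K i, by rw [← map_mul, ← hi, map_neg, map_one]⟩
    · obtain ⟨l, hl⟩ := (isSquare_mul_iff (neg_ne_zero.2 one_ne_zero) hδ0).2 (iff_of_false hm1 hM.nonsq)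
      refine ⟨(0 : F) • (1 : K) + (l / δ) • τK, ?_⟩
      rw [hcomb, show (0 : F) * 0 + δ * (l / δ) * (l / δ) = -1 by field_simp; linear_combination -hl]
      simp
  have hcoord : ∀ k : K, ∃ α β : F, k = α • (1 : K) + β • τK := fun k => by
    obtain ⟨α, β, h⟩ := (hM.mem_iff _).1 k.2
    exact ⟨α, β, Subtype.ext h⟩
  set D := (-1 : F) ^ (m + 1) * (CfsgLib.QuadFin.gram ⇑Q).det with hD
  have hD0 : D ≠ 0 := mul_ne_zero (pow_ne_zero _ (neg_ne_zero.2 one_ne_zero)) (CfsgLib.QuadFin.gram_det_ne_zero Q hQ)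
  have hnormal : ∀ c e : F, (c ≠ 0 ∨ e ≠ 0) → IsSquare (nrm δ c e * D) → _ := fun c e hce hsq =>
    exists_normal (B := Q.polarBilin) (fun x y => polar_comm ..) h2 hQ.1 hM.nonsq hM.isSA
      (m := m) (by rw [Module.finrank_fintype_fun_eq_card, hcard]) (Pi.basisFun F ι) hce (by
        rw [← CfsgLib.QuadFin.gram_eq_toMatrix]
        obtain ⟨t, ht⟩ := hsq
        exact ⟨t, by rw [← ht, hD]; ring⟩)
  have hz0 : ∀ c e : F, (c ≠ 0 ∨ e ≠ 0) → e • (1 : K) + c • τK ≠ 0 := fun c e hce h => by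
    obtain ⟨h1, h2'⟩ := coeff_eq_zero hM.nonsq hM.mul_self (congrArg Subtype.val h)
    rcases hce with h | h <;> contradiction
  have hσ : ∀ {ν : Type} [Fintype ν], Fintype.card ν = m + 1 → ∀ v₀ : ν, ∃ σ : ν ≃ Fin (m + 1), σ v₀ = Fin.last m :=
    fun {ν} _ h v₀ => ⟨(Fintype.equivFinOfCardEq h).trans (Equiv.swap (Fintype.equivFinOfCardEq h v₀) (Fin.last m)),
      by simp⟩
  have hdvd_of : ∀ j, (r ∣ q ^ j - 1 ∨ r ∣ q ^ j + 1) → r ∣ q ^ (2 * j) - 1 := fun j hj => by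
    have e : q ^ (2 * j) - 1 = (q ^ j + 1) * (q ^ j - 1) := by
      rw [CfsgLib.ClassicalGroups.sq_pred_mul, ← pow_mul, mul_comm]
    rw [e]
    rcases hj with h | h
    · exact h.mul_left _
    · exact h.mul_right _
  have hfin : ∀ (T : ℕ), r ∣ ∏ i ∈ Finset.range T, (q ^ (2 * (2 * i + 1)) - 1) → 2 * T ≤ m + 2 →
      ∃ h, Odd h ∧ h ≤ m + 1 ∧ (orderOf (q : ZMod r) = h ∨ (orderOf (q : ZMod r) = 2 * h ∧ (q : ZMod r) ^ h = -1)) := by
    intro T hT hle
    obtain ⟨i, hi, hd⟩ := (Prime.dvd_finset_prod_iff hr.prime _).1 hT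
    rw [Finset.mem_range] at hi
    obtain ⟨h, h1, h2', h3⟩ := exists_half hq1 ⟨i, rfl⟩ hd hrq
    exact ⟨h, h1, by omega, h3⟩
  rcases Nat.even_or_odd' m with ⟨k, rfl | rfl⟩
  · -- odd dimension over the extension field
    obtain ⟨c, e, hce'⟩ := exists_nrm_eq h2 hδ0 D
    have hce : c ≠ 0 ∨ e ≠ 0 := by
      by_contra h
      push Not at h
      rw [h.1, h.2, nrm] at hce'
      exact hD0 (by rw [← hce']; ring)
    obtain ⟨u, b, hb, ho, hv⟩ := hnormal c e hce ⟨D, by rw [hce']⟩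
    set ζ := e • (1 : K) + c • τK with hζ
    have hζ0 : ζ ≠ 0 := hz0 c e hce
    obtain ⟨σ, hσv⟩ := hσ (ν := Unit ⊕ (Fin k ⊕ Fin k)) (by simp; omega) (.inl ())
    let P := pairEquiv (k := k) j ζ hj hζ0 h2K
    let ψ : (Unit ⊕ (Fin k ⊕ Fin k) → K) ≃ₗ[K] (Unit ⊕ (Fin k ⊕ Fin k) → K) :=
      (LinearEquiv.sumArrowLequivProdArrow Unit (Fin k ⊕ Fin k) K K).trans
        (((LinearEquiv.smulOfUnit (Units.mk0 ζ hζ0) : (Unit → K) ≃ₗ[K] (Unit → K)).prodCongr P).trans
          (LinearEquiv.sumArrowLequivProdArrow Unit (Fin k ⊕ Fin k) K K).symm)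
    have hX := card_dvd_normalizer h2 hK hM b hb ho hv σ (.inl ()) hσv (Cfsg.quadFormOdd k K) ψ ζ hζ0 (fun v => by
      have h : Cfsg.quadFormOdd k K (ψ v) = (ζ * v (.inl ())) ^ 2 + Cfsg.quadFormPlus k K (P (v ∘ Sum.inr)) := rfl
      rw [h, pairEquiv_value, show e • (1 : K) + c • (⟨τ, hM.mem⟩ : K) = ζ from rfl]
      simp [Fintype.sum_sum_type, mul_add, Finset.mul_sum]
      ring)
    rw [CfsgLib.ClassicalGroups.card_isometry_odd h2K, hcK] at hX
    simp only [← pow_mul] at hX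
    obtain ⟨E, hE⟩ : ∃ E, (2 * k + 1) * (2 * k) = 2 * k ^ 2 + E := ⟨2 * k ^ 2 + 2 * k, by ring⟩
    have hsplit := (prod_split (fun i => q ^ (2 * i) - 1) k).1
    have hpos : 0 < 2 * q ^ (2 * k ^ 2) * ∏ i ∈ Finset.range k, (q ^ (2 * (2 * (i + 1))) - 1) := by
      refine Nat.mul_pos (by positivity) (Finset.prod_pos fun i _ => ?_)
      have : 1 < q ^ (2 * (2 * (i + 1))) := Nat.one_lt_pow (by omega) (by rw [← hq]; exact Fintype.one_lt_card)
      omega
    have hR : ∀ M, Nat.card (O Q) = 2 * q ^ ((2 * k + 1) * (2 * k)) * M * ∏ i ∈ Finset.range (2 * k), (q ^ (2 * (i + 1)) - 1) →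
        r ∣ M * ∏ i ∈ Finset.range k, (q ^ (2 * (2 * i + 1)) - 1) := fun M hMc => by
      refine hkey _ E _ hpos hX ?_
      rw [hMc, hsplit, hE, pow_add]; ring
    rcases hsign with ⟨-, hc⟩ | ⟨-, hc⟩ <;> rcases hr.dvd_mul.1 (hR _ hc) with h | h
    · exact exists_half hq1 ⟨k, rfl⟩ (hdvd_of _ (Or.inl h)) hrq
    · exact hfin k h (by omega)
    · exact exists_half hq1 ⟨k, rfl⟩ (hdvd_of _ (Or.inr h)) hrq
    · exact hfin k h (by omega)
  · -- even dimension over the extension field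
    have hsplit := (prod_split (fun i => q ^ (2 * i) - 1) k).2
    obtain ⟨E, hE⟩ : ∃ E, (2 * k + 1 + 1) * (2 * k + 1) = 2 * ((k + 1) * k) + E := ⟨2 * k ^ 2 + 4 * k + 2, by ring⟩
    have hone : ∀ i, 1 < q ^ (i + 1) := fun i => Nat.one_lt_pow (by omega) (by rw [← hq]; exact Fintype.one_lt_card)
    have hfin' : ∀ M, 0 < M → 2 * q ^ (2 * ((k + 1) * k)) * M *
        ∏ i ∈ Finset.range k, (q ^ (2 * (2 * (i + 1))) - 1) ∣ Nat.card N →
        Nat.card (O Q) = 2 * q ^ ((2 * k + 1 + 1) * (2 * k + 1)) * M *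
          ∏ i ∈ Finset.range (2 * k + 1), (q ^ (2 * (i + 1)) - 1) →
        r ∣ ∏ i ∈ Finset.range (k + 1), (q ^ (2 * (2 * i + 1)) - 1) := fun M hM0 hX hc => by
      refine hkey _ E _ (Nat.mul_pos (Nat.mul_pos (by positivity) hM0) (Finset.prod_pos fun i _ => ?_)) hX ?_
      · have := hone (2 * (2 * i) + 3)
        rw [show 2 * (2 * i) + 3 + 1 = 2 * (2 * (i + 1)) by ring] at this
        omega
      · rw [hc, hsplit, hE, pow_add]; ring
    rcases hsign with ⟨hs, hc⟩ | ⟨hs, hc⟩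
    · obtain ⟨u, b, hb, ho, hv⟩ := hnormal 0 1 (Or.inr one_ne_zero) (by
        rw [nrm]; simpa using hs)
      obtain ⟨σ, hσv⟩ := hσ (ν := Fin (k + 1) ⊕ Fin (k + 1)) (by simp; omega) (.inr (Fin.last k))
      have hX := card_dvd_normalizer h2 hK hM b hb ho hv σ (.inr (Fin.last k)) hσv (Cfsg.quadFormPlus (k + 1) K)
        (pairEquiv j 1 hj one_ne_zero h2K) 1 one_ne_zero (fun v => by
          rw [pairEquiv_value]; simp)
      rw [CfsgLib.ClassicalGroups.card_isometry_plus, hcK] at hX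
      simp only [← pow_mul] at hX
      rw [show 2 * (k + 1) = 2 * k + 1 + 1 by ring] at hX
      exact hfin (k + 1) (hfin' _ (by have := hone (2 * k + 1); omega) (by convert hX using 4) hc) (by omega)
    · obtain ⟨c, e, hce'⟩ := exists_nrm_eq h2 hδ0 D
      have hce : c ≠ 0 ∨ e ≠ 0 := by
        by_contra h
        push Not at h
        rw [h.1, h.2, nrm] at hce'
        exact hD0 (by rw [← hce']; ring)
      obtain ⟨u, b, hb, ho, hv⟩ := hnormal c e hce ⟨D, by rw [hce']⟩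
      set ζ := e • (1 : K) + c • τK with hζ
      have hani : ∀ x y : K, x ^ 2 + 0 * x * y + ζ * y ^ 2 = 0 → x = 0 ∧ y = 0 := by
        intro x y h
        by_cases hy : y = 0
        · subst hy; exact ⟨by simpa using h, rfl⟩
        exfalso
        obtain ⟨α, β, hαβ⟩ := hcoord (x / y)
        have hsq : (x / y) * (x / y) = -ζ := by field_simp; linear_combination h
        rw [hαβ, hcomb, hζ, ← add_eq_zero_iff_eq_neg] at hsq
        have h0 : (α * α + δ * β * β + e) • (1 : K) + (α * β + β * α + c) • τK = 0 := by rw [← hsq]; module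
        obtain ⟨e1, e2⟩ := coeff_eq_zero hM.nonsq hM.mul_self (congrArg Subtype.val h0)
        refine hs ⟨α ^ 2 - δ * β ^ 2, ?_⟩
        rw [← hce', nrm, show e = -(α * α + δ * β * β) by linear_combination e1,
          show c = -(α * β + β * α) by linear_combination e2]
        ring
      obtain ⟨σ, hσv⟩ := hσ (ν := (Fin k ⊕ Fin k) ⊕ Fin 2) (by simp; omega) (.inr 1)
      let P := pairEquiv (k := k) j 1 hj one_ne_zero h2K
      let ψ : ((Fin k ⊕ Fin k) ⊕ Fin 2 → K) ≃ₗ[K] ((Fin k ⊕ Fin k) ⊕ Fin 2 → K) :=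
        (LinearEquiv.sumArrowLequivProdArrow (Fin k ⊕ Fin k) (Fin 2) K K).trans
          ((P.prodCongr (LinearEquiv.refl K (Fin 2 → K))).trans
            (LinearEquiv.sumArrowLequivProdArrow (Fin k ⊕ Fin k) (Fin 2) K K).symm)
      have hX := card_dvd_normalizer h2 hK hM b hb ho hv σ (.inr 1) hσv (Cfsg.quadFormMinus k K 0 ζ) ψ 1 one_ne_zero
        (fun v => by
          have h : Cfsg.quadFormMinus k K 0 ζ (ψ v) = Cfsg.quadFormPlus k K (P (v ∘ Sum.inl)) +
            (v (.inr 0) ^ 2 + 0 * v (.inr 0) * v (.inr 1) + ζ * v (.inr 1) ^ 2) := rfl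
          rw [h, pairEquiv_value, show e • (1 : K) + c • (⟨τ, hM.mem⟩ : K) = ζ from rfl]
          simp [Fintype.sum_sum_type, Fin.sum_univ_two])
      rw [CfsgLib.ClassicalGroups.card_isometry_minus hani, hcK] at hX
      simp only [← pow_mul] at hX
      rw [show 2 * (k + 1) = 2 * k + 1 + 1 by ring] at hX
      exact hfin (k + 1) (hfin' _ (by omega) (by convert hX using 4) hc) (by omega)

end CfsgLib.OrthSelfAdj
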