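import Cfsg.Agent.Lib.Maximal99.OrthSelfAdj.Pairs
import Cfsg.Agent.Lib.Maximal99.SympSemiR
import Cfsg.Agent.Lib.Maximal99.OrderR

/-!
Isometries of prime order commuting with no self-adjoint square root of a non-square.
-/

set_option autoImplicit false

namespace CfsgLib.OrthSelfAdj

open Module Polynomial

variable {F : Type*} [Field F] [Fintype F] {V : Type*} [AddCommGroup V] [Module F V] [FiniteDimensional F V]
  {B : LinearMap.BilinForm F V} (hS : ∀ x y, B x y = B y x) {T : Module.End F V} {r q : ℕ} [Fact r.Prime]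

omit [Fintype F] [FiniteDimensional F V] in
lemma aeval_mem' (g : F[X]) {x : V} (hx : x ∈ LinearMap.range (T - 1)) : aeval T g x ∈ LinearMap.range (T - 1) := by
  refine CfsgLib.SemiR.aeval_mem (T := T) (fun y hy => ?_) g hx
  obtain ⟨z, rfl⟩ := hy
  exact ⟨T z, by simp⟩

lemma neg_one_pow_val {q : ℕ} (hq : Fintype.card F = q) (hodd : Odd q) {δ : F} (hδ : ¬ IsSquare δ) :
    ∀ n : ℕ, δ ^ ((q ^ n - 1) / 2) = (-1) ^ n := by
  have hδ0 : δ ≠ 0 := fun h => hδ (h ▸ IsSquare.zero)
  have hchar : ringChar F ≠ 2 := fun h => by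
    have := FiniteField.even_card_of_char_two h
    rw [hq] at this
    exact Nat.not_even_iff_odd.2 hodd (Nat.even_iff.2 this)
  have h1 : δ ^ ((q - 1) / 2) = -1 := by
    rw [show (q - 1) / 2 = Fintype.card F / 2 by rw [hq]; obtain ⟨m, rfl⟩ := hodd; omega]
    exact (FiniteField.pow_dichotomy hchar hδ0).resolve_left fun h => hδ ((FiniteField.isSquare_iff hchar hδ0).2 h)
  intro n
  induction n with
  | zero => simp
  | succ n ih =>
    have hqn : 1 ≤ q ^ n := Nat.one_le_pow _ _ hodd.pos
    obtain ⟨a, ha⟩ := hodd.pow (n := n)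
    obtain ⟨c, hc⟩ := hodd
    have e : (q ^ (n + 1) - 1) / 2 = q * ((q ^ n - 1) / 2) + (q - 1) / 2 := by
      rw [pow_succ, ha, hc]
      simp only [Nat.add_sub_cancel, Nat.mul_div_cancel_left _ two_pos]
      rw [show (2 * a + 1) * (2 * c + 1) = 2 * ((2 * c + 1) * a + c) + 1 by ring, Nat.add_sub_cancel,
        Nat.mul_div_cancel_left _ two_pos]
    rw [e, pow_add, pow_mul, h1, show δ ^ q = δ by rw [← hq]; exact FiniteField.pow_card δ, ih, pow_succ]

lemma aeval_frob {A : Type*} [Ring A] [Algebra F A] (x : A) (g : F[X]) :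
    ∀ n : ℕ, aeval (x ^ Fintype.card F ^ n) g = (aeval x g) ^ Fintype.card F ^ n := by
  intro n
  induction n with
  | zero => simp
  | succ n ih =>
    rw [pow_succ, pow_mul, pow_mul, ← Polynomial.expand_aeval, FiniteField.expand_card, map_pow, ih]

include hS

omit [Fintype F] in
lemma nd_move (hB : ∀ x, (∀ y, B x y = 0) → x = 0) (hr0 : (r : F) ≠ 0) (hT : T ^ r = 1)
    (hTB : ∀ a b, B (T a) (T b) = B a b) : NdOn B (LinearMap.range (T - 1)) := by
  have hc := CfsgLib.OrderR.isCompl_fix_move T hT hr0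
  intro u hu hall
  refine hB u fun v => ?_
  obtain ⟨a, ha, b, hb, rfl⟩ := Submodule.mem_sup.1 (show v ∈ LinearMap.ker (T - 1) ⊔ LinearMap.range (T - 1) by
    rw [hc.sup_eq_top]; exact Submodule.mem_top)
  obtain ⟨z, rfl⟩ := hu
  have ha' : T a = a := by simpa [sub_eq_zero] using ha
  rw [map_add, hall b hb, add_zero, LinearMap.sub_apply, Module.End.one_apply, map_sub, LinearMap.sub_apply]
  nth_rewrite 1 [← ha']
  rw [hTB, sub_self]

omit [Fintype F] in
lemma adjoint_poly (hT : T ^ r = 1) (hTB : ∀ a b, B (T a) (T b) = B a b) (g : F[X]) (a b : V) :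
    B (aeval T g a) b = B a (aeval (T ^ (r - 1)) g b) := by
  induction g using Polynomial.induction_on' with
  | add g1 g2 h1 h2 => simp only [map_add, LinearMap.add_apply, h1, h2]
  | monomial n c =>
    simp only [aeval_monomial, Module.End.mul_apply, Module.algebraMap_end_apply, map_smul, LinearMap.smul_apply,
      CfsgLib.SympSemiR.adjoint hTB hT]

/-- A cyclic vector for the moved space. -/
lemma exists_cyclic (hB : ∀ x, (∀ y, B x y = 0) → x = 0) (hr2 : r ≠ 2) (hq : Fintype.card F = q) {o e : ℕ}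
    (ho : o = orderOf (q : ZMod r)) (ho0 : 0 < o)
    (hr0 : (r : F) ≠ 0) (hT : T ^ r = 1) (hTB : ∀ a b, B (T a) (T b) = B a b)
    (he : finrank F ↥(LinearMap.range (T - 1)) = e * o) (hcases : e = 1 ∨ (e = 2 ∧ Odd o)) :
    ∃ v ∈ LinearMap.range (T - 1), ∀ x ∈ LinearMap.range (T - 1), ∃ g : F[X], x = aeval T g v := by
  classical
  obtain ⟨e', k, b, v, g, hb, hfix, hg, hspanT, -, hrange, -⟩ :=
    CfsgLib.SemiR.exists_cyclic_basis hq ho ho0 hr0 T hT
  obtain rfl : e' = e := Nat.eq_of_mul_eq_mul_right ho0 (hrange.symm.trans he)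
  set S : Submodule F V := Submodule.span F (Set.range fun s => b (.inl s)) with hSdef
  have hSr : LinearMap.range (T - 1) = S := by
    refine Submodule.eq_of_le_of_finrank_eq ?_ ?_
    · have : (⊤ : Submodule F V) ≤ S.comap (T - 1) := by
        rw [← b.span_eq, Submodule.span_le]
        rintro _ ⟨s, rfl⟩
        rw [SetLike.mem_coe, Submodule.mem_comap, LinearMap.sub_apply, Module.End.one_apply]
        rcases s with ⟨i, j⟩ | l
        · refine S.sub_mem ?_ (Submodule.subset_span ⟨(i, j), rfl⟩)
          exact Submodule.span_mono (by rintro _ ⟨j', rfl⟩; exact ⟨(i, j'), rfl⟩) (hspanT i j)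
        · rw [hfix, sub_self]; exact S.zero_mem
      rintro _ ⟨x, rfl⟩
      exact this Submodule.mem_top
    · rw [hrange, hSdef, finrank_span_eq_card (b := fun s => b (.inl s)) (b.linearIndependent.comp _ Sum.inl_injective),
        Fintype.card_prod, Fintype.card_fin, Fintype.card_fin]
  have hvS : ∀ i, v i ∈ LinearMap.range (T - 1) := fun i => by
    rw [hSr]
    exact Submodule.subset_span ⟨(i, ⟨0, ho0⟩), by simp [hb]⟩
  obtain ⟨w, hw, hgen⟩ : ∃ w ∈ LinearMap.range (T - 1), ∀ i, ∃ h : F[X], v i = aeval T h w := by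
    rcases hcases with rfl | ⟨rfl, hodd⟩
    · exact ⟨v 0, hvS 0, fun i => ⟨1, by rw [Subsingleton.elim i 0, map_one, Module.End.one_apply]⟩⟩
    · obtain ⟨hm0, hirr0, hdeg0, hdvd0, hev0⟩ := hg 0
      obtain ⟨hm1, hirr1, -, -, hev1⟩ := hg 1
      have hne : g 0 ≠ g 1 := by
        intro heq
        have hkill : ∀ x ∈ LinearMap.range (T - 1), aeval T (g 0) x = 0 := by
          rw [hSr]
          intro x hx
          induction hx using Submodule.span_induction with
          | mem x hx =>
            obtain ⟨⟨i, j⟩, rfl⟩ := hx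
            have hgi : g i = g 0 := by fin_cases i <;> simp [heq]
            show aeval T (g 0) (b (.inl (i, j))) = 0
            rw [hb, ← Module.End.mul_apply, show aeval T (g 0) * T ^ (j : ℕ) = T ^ (j : ℕ) * aeval T (g 0) from by
              rw [← aeval_X_pow (R := F) T, ← map_mul, ← map_mul, mul_comm], Module.End.mul_apply, ← hgi,
              (hg i).2.2.2.2, map_zero]
          | zero => exact map_zero _
          | add x y _ _ hx hy => rw [map_add, hx, hy, add_zero]
          | smul c x _ hx => rw [map_smul, hx, smul_zero]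
        have hndR := nd_move hS hB hr0 hT hTB
        set g' : F[X] := expand F (r - 1) (g 0) with hg'
        have hg'v : aeval T g' (v 0) = 0 := by
          refine hndR _ (CfsgLib.SemiR.aeval_mem (T := T) (fun y hy => ?_) _ (hvS 0)) fun u hu => ?_
          · obtain ⟨z, rfl⟩ := hy
            exact ⟨T z, by simp⟩
          · rw [hS _ u, hg', Polynomial.expand_aeval, ← adjoint_poly hS hT hTB, hkill u hu, map_zero, LinearMap.zero_apply]
        have hv0 : v 0 ≠ 0 := by
          intro h
          refine b.ne_zero (.inl (0, ⟨0, ho0⟩)) ?_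
          rw [hb, h, map_zero]
        have hdiv : g 0 ∣ g' := by
          by_contra hnd
          obtain ⟨s, t, hst⟩ := hirr0.coprime_iff_not_dvd.2 hnd
          have := congrArg (fun f => aeval T f (v 0)) hst
          simp only [map_add, map_mul, LinearMap.add_apply, Module.End.mul_apply, hev0, hg'v, map_zero, add_zero,
            map_one, Module.End.one_apply] at this
          exact hv0 this.symm
        haveI : Fact (Irreducible (g 0)) := ⟨hirr0⟩
        let ζ := AdjoinRoot.root (g 0)
        have hζ : aeval ζ (g 0) = 0 := by rw [AdjoinRoot.aeval_eq, AdjoinRoot.mk_self]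
        have hζr : ζ ^ r = 1 := by
          obtain ⟨c, hc⟩ := hdvd0
          have := congrArg (aeval ζ) hc
          rw [map_mul, hζ, zero_mul, map_sub, map_pow, aeval_X, map_one, sub_eq_zero] at this
          exact this
        have hζ' : aeval (ζ ^ (r - 1)) (g 0) = 0 := by
          obtain ⟨c, hc⟩ := hdiv
          rw [← Polynomial.expand_aeval, ← hg', hc, map_mul, hζ, zero_mul]
        let σ : AdjoinRoot (g 0) →ₐ[F] AdjoinRoot (g 0) :=
          AdjoinRoot.liftAlgHom (g 0) (Algebra.ofId F _) (ζ ^ (r - 1)) (by simpa [Polynomial.aeval_def] using hζ')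
        have hσζ : σ ζ = ζ ^ (r - 1) := AdjoinRoot.liftAlgHom_root _ _ _ _
        let pb := AdjoinRoot.powerBasis hirr0.ne_zero
        haveI : FiniteDimensional F (AdjoinRoot (g 0)) := pb.finite
        haveI : Finite (AdjoinRoot (g 0)) := Module.finite_of_finite F
        haveI : IsGalois F (AdjoinRoot (g 0)) := GaloisField.instIsGaloisOfFinite
        let e := AlgEquiv.ofBijective σ (Algebra.IsAlgebraic.algHom_bijective σ)
        have hr1 : 1 ≤ r := (Fact.out : r.Prime).pos
        have he2 : e ^ 2 = 1 := by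
          refine AlgEquiv.coe_toAlgHom_injective (AdjoinRoot.algHom_ext ?_)
          show σ (σ ζ) = ζ
          rw [hσζ, map_pow, hσζ, ← pow_mul]
          obtain ⟨j, hj⟩ : ∃ j, r = j + 2 := ⟨r - 2, by have := (Fact.out : r.Prime).two_le; omega⟩
          rw [show (r - 1) * (r - 1) = r * j + 1 by subst hj; simp only [Nat.add_succ_sub_one]; ring, pow_succ, pow_mul,
            hζr, one_pow, one_mul]
        have hcard : Nat.card (AdjoinRoot (g 0) ≃ₐ[F] AdjoinRoot (g 0)) = o := by
          rw [IsGalois.card_aut_eq_finrank, pb.finrank, AdjoinRoot.powerBasis_dim, hdeg0]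
        have he1 : e = 1 := by
          have h := orderOf_dvd_natCard e
          rw [hcard] at h
          have h' := (Nat.dvd_prime Nat.prime_two).1 (orderOf_dvd_of_pow_eq_one he2)
          rcases h' with h' | h'
          · exact orderOf_eq_one_iff.1 h'
          · rw [h'] at h
            exact absurd (even_iff_two_dvd.2 h) (Nat.not_even_iff_odd.2 hodd)
        have hfix' : ζ ^ (r - 1) = ζ := by
          rw [← hσζ]; exact AlgEquiv.congr_fun he1 ζ
        have hζ1 : ζ = 1 := by
          have h1 : ζ ^ (r - 1) * ζ = 1 := by rw [← pow_succ, Nat.sub_add_cancel hr1, hζr]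
          rw [hfix', ← pow_two] at h1
          have h3 := pow_gcd_eq_one.2 ⟨h1, hζr⟩
          rwa [((Nat.coprime_primes Nat.prime_two Fact.out).2 (Ne.symm hr2) : Nat.gcd 2 r = 1), pow_one] at h3
        have hdvd1 : g 0 ∣ X - C 1 := by
          rw [← AdjoinRoot.mk_eq_zero, map_sub, AdjoinRoot.mk_X, AdjoinRoot.mk_C, map_one, sub_eq_zero]
          exact hζ1
        obtain ⟨c, hc⟩ := hdvd1
        have hTv : T (v 0) = v 0 := by
          have := congrArg (fun f => aeval T f (v 0)) hc
          rw [mul_comm] at this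
          simp only [map_mul, map_sub, aeval_X, Module.End.mul_apply, hev0, map_zero, map_one,
            LinearMap.sub_apply, Module.End.one_apply] at this
          exact sub_eq_zero.1 this
        exact hv0 (Submodule.disjoint_def.1 (CfsgLib.OrderR.disjoint_fix_move T hT hr0) _
          (by simpa [sub_eq_zero] using hTv) (hvS 0))
      have hcop : IsCoprime (g 0) (g 1) := hirr0.coprime_iff_not_dvd.2 fun h =>
        hne (Polynomial.eq_of_monic_of_associated hm0 hm1 (hirr0.associated_of_dvd hirr1 h))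
      obtain ⟨s, t, hst⟩ := hcop
      refine ⟨v 0 + v 1, Submodule.add_mem _ (hvS 0) (hvS 1), ?_⟩
      have e0 : v 0 = aeval T (t * g 1) (v 0 + v 1) := by
        have h := congrArg (fun f => aeval T f (v 0)) hst
        simp only [map_add, map_mul, LinearMap.add_apply, Module.End.mul_apply, hev0, map_zero, zero_add, map_one,
          Module.End.one_apply] at h
        rw [map_mul, Module.End.mul_apply, map_add, hev1, add_zero, h]
      have e1 : v 1 = aeval T (s * g 0) (v 0 + v 1) := by
        have h := congrArg (fun f => aeval T f (v 1)) hst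
        simp only [map_add, map_mul, LinearMap.add_apply, Module.End.mul_apply, hev1, map_zero, add_zero, map_one,
          Module.End.one_apply] at h
        rw [map_mul, Module.End.mul_apply, map_add, hev0, zero_add, h]
      intro i
      fin_cases i
      · exact ⟨_, e0⟩
      · exact ⟨_, e1⟩
  refine ⟨w, hw, ?_⟩
  rw [hSr]
  intro x hx
  induction hx using Submodule.span_induction with
  | mem x hx =>
    obtain ⟨⟨i, j⟩, rfl⟩ := hx
    obtain ⟨h, hh⟩ := hgen i
    exact ⟨X ^ (j : ℕ) * h, by
      show b (.inl (i, j)) = _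
      rw [hb, map_mul, map_pow, aeval_X, Module.End.mul_apply, ← hh]⟩
  | zero => exact ⟨0, by simp⟩
  | add x y _ _ hx hy =>
    obtain ⟨g1, h1⟩ := hx; obtain ⟨g2, h2⟩ := hy
    exact ⟨g1 + g2, by rw [map_add, LinearMap.add_apply, ← h1, ← h2]⟩
  | smul c x _ hx =>
    obtain ⟨g1, h1⟩ := hx
    exact ⟨c • g1, by rw [map_smul, LinearMap.smul_apply, ← h1]⟩



/-- Cyclic elements commute with no such operator. -/
theorem no_comm_of_order (hB : ∀ x, (∀ y, B x y = 0) → x = 0) (h2 : (2 : F) ≠ 0) (hr2 : r ≠ 2)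
    (hq : Fintype.card F = q) (hodd : Odd q) (hr0 : (r : F) ≠ 0) (hrq : (q : ZMod r) ≠ 0)
    (hT : T ^ r = 1) (hTB : ∀ a b, B (T a) (T b) = B a b) {h : ℕ} (hh : Odd h)
    (hcase : orderOf (q : ZMod r) = h ∨ (orderOf (q : ZMod r) = 2 * h ∧ (q : ZMod r) ^ h = -1))
    (hne : T ≠ 1) (hle : finrank F ↥(LinearMap.range (T - 1)) ≤ 2 * h)
    {τ : Module.End F V} {δ : F} (hδ : ¬ IsSquare δ) (hτ : IsSA B τ δ) : τ * T ≠ T * τ := by
  intro hcm
  set o := orderOf (q : ZMod r) with ho
  have hh0 : 0 < h := hh.pos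
  have ho0 : 0 < o := by rcases hcase with h' | ⟨h', -⟩ <;> omega
  have hbot : LinearMap.range (T - 1) ≠ ⊥ := fun h0 => hne (sub_eq_zero.1 (LinearMap.range_eq_bot.1 h0))
  obtain ⟨e, k, -, -, -, -, -, -, -, -, hrange, -⟩ :=
    CfsgLib.SemiR.exists_cyclic_basis hq ho ho0 hr0 T hT
  have he0 : e ≠ 0 := fun h0 => hbot (Submodule.finrank_eq_zero.1 (by rw [hrange, h0, zero_mul]))
  have hcases : e = 1 ∨ (e = 2 ∧ Odd o) := by
    rcases hcase with h' | ⟨h', -⟩
    · have : e ≤ 2 := Nat.le_of_mul_le_mul_right (by rw [← h'] at hle; linarith) ho0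
      rcases (by omega : e = 1 ∨ e = 2) with rfl | rfl
      · exact Or.inl rfl
      · exact Or.inr ⟨rfl, h' ▸ hh⟩
    · exact Or.inl (by
        have : e ≤ 1 := Nat.le_of_mul_le_mul_right (by rw [hrange] at hle; rw [one_mul]; omega) ho0
        omega)
  obtain ⟨v0, hv0, hcyc⟩ := exists_cyclic hS hB hr2 hq ho ho0 hr0 hT hTB hrange hcases
  have hinvR : ∀ y ∈ LinearMap.range (T - 1), τ y ∈ LinearMap.range (T - 1) := by
    rintro _ ⟨y, rfl⟩
    exact ⟨τ y, by rw [← Module.End.mul_apply, ← Module.End.mul_apply, sub_mul, mul_sub, one_mul, mul_one, hcm]⟩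
  obtain ⟨g, hg⟩ := hcyc _ (hinvR _ hv0)
  set G : Module.End F V := aeval T g with hG
  have hGτ : ∀ y ∈ LinearMap.range (T - 1), τ y = G y := by
    intro y hy
    obtain ⟨f, rfl⟩ := hcyc y hy
    have hcomm : Commute τ (aeval T f) := by
      clear hy
      induction f using Polynomial.induction_on' with
      | add f1 f2 h1 h2 => rw [map_add]; exact h1.add_right h2
      | monomial n c =>
        rw [aeval_monomial]
        exact (Algebra.commute_algebraMap_right c τ).mul_right ((show Commute τ T from hcm).pow_right n)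
    rw [← Module.End.mul_apply, hcomm.eq, Module.End.mul_apply, hg, ← Module.End.mul_apply, hG, ← map_mul, mul_comm,
      map_mul, Module.End.mul_apply]
  have hpow : ∀ (m : ℕ), ∀ y ∈ LinearMap.range (T - 1), (G ^ (2 * m + 1)) y = δ ^ m • τ y := by
    intro m
    induction m with
    | zero => intro y hy; simp [hGτ y hy]
    | succ m ih =>
      intro y hy
      have hGy : G y ∈ LinearMap.range (T - 1) := aeval_mem' g hy
      have hGGy : G (G y) ∈ LinearMap.range (T - 1) := aeval_mem' g hGy
      rw [show 2 * (m + 1) + 1 = 2 * m + 1 + 1 + 1 by ring, pow_succ, pow_succ, Module.End.mul_apply,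
        Module.End.mul_apply, ih _ hGGy, ← hGτ _ hGy, ← hGτ _ hy, hτ.sq, smul_smul, pow_succ]
  have hfrob : ∀ y ∈ LinearMap.range (T - 1), (aeval (T ^ q ^ h) g) y = - τ y := by
    intro y hy
    obtain ⟨m, hm⟩ := hodd.pow (n := h)
    have hδpow : δ ^ m = -1 := by
      have := neg_one_pow_val hq hodd hδ h
      rwa [hh.neg_one_pow, hm, show (2 * m + 1 - 1) / 2 = m by omega] at this
    conv_lhs => rw [← hq, aeval_frob, hq, ← hG, hm]
    rw [hpow m y hy, hδpow, neg_one_smul]
  have hTpow : ∀ j k : ℕ, (j : ZMod r) = k → T ^ j = T ^ k := by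
    intro j k hjk
    rw [ZMod.natCast_eq_natCast_iff'] at hjk
    rw [pow_eq_pow_mod j hT, pow_eq_pow_mod k hT, hjk]
  have hzero : ∀ y ∈ LinearMap.range (T - 1), τ y = 0 := by
    intro y hy
    rcases hcase with h' | ⟨-, h'⟩
    · have hone : T ^ (q ^ h) = T := by
        conv_rhs => rw [← pow_one T]
        exact hTpow _ _ (by rw [Nat.cast_pow, ← h', ho, pow_orderOf_eq_one, Nat.cast_one])
      have h1 := hfrob y hy
      rw [hone, ← hG, ← hGτ y hy] at h1
      have h3 : (2 : F) • τ y = 0 := by rw [two_smul]; nth_rewrite 1 [h1]; exact neg_add_cancel _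
      exact (smul_eq_zero.1 h3).resolve_left h2
    · have hinv : T ^ (q ^ h) = T ^ (r - 1) := hTpow _ _ (by
        rw [Nat.cast_pow, h', Nat.cast_sub (Fact.out : r.Prime).pos]; simp)
      refine nd_move hS hB hr0 hT hTB _ (hinvR y hy) fun w hw => ?_
      have h1 : B (τ y) w = B y (- τ w) := by
        rw [hGτ y hy, hG, adjoint_poly hS hT hTB, ← hinv, hfrob w hw]
      rw [map_neg, ← hτ.adj] at h1
      exact mul_left_cancel₀ h2 (by linear_combination h1)
  obtain ⟨y, hy, hy0⟩ := Submodule.exists_mem_ne_zero_of_ne_bot hbot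
  have h3 := hτ.sq y
  rw [hzero y hy, map_zero] at h3
  exact hy0 ((smul_eq_zero.1 h3.symm).resolve_left fun h0 => hδ (h0 ▸ IsSquare.zero))

omit [Fact r.Prime] in
/-- An element with `(T - 1)² = 0` moving a plane commutes with no such operator. -/
theorem no_comm_of_plane (hB : ∀ x, (∀ y, B x y = 0) → x = 0) (h2 : (2 : F) ≠ 0)
    (hTB : ∀ a b, B (T a) (T b) = B a b) (hN : (T - 1) ^ 2 = 0)
    (hrk : finrank F ↥(LinearMap.range (T - 1)) = 2)
    {τ : Module.End F V} {δ : F} (hδ : ¬ IsSquare δ) (hτ : IsSA B τ δ) : τ * T ≠ T * τ := by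
  intro hcm
  set N : Module.End F V := T - 1 with hNdef
  have hTN : ∀ x, T x = x + N x := fun x => by simp [hNdef]
  have hNN : ∀ x, N (N x) = 0 := fun x => by
    rw [← Module.End.mul_apply, ← pow_two, hN]; rfl
  have hNτ : ∀ x, N (τ x) = τ (N x) := fun x => by
    rw [← Module.End.mul_apply, ← Module.End.mul_apply, hNdef, sub_mul, mul_sub, one_mul, mul_one, hcm]
  have hid : ∀ x y, B (N x) y + B x (N y) + B (N x) (N y) = 0 := fun x y => by
    have h := hTB x y
    rw [hTN, hTN] at h
    simp only [map_add, LinearMap.add_apply] at h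
    linear_combination h
  have hperp : ∀ a, N a = 0 → ∀ x, B a (N x) = 0 := fun a ha x => by
    have h := hid a x
    simpa [ha] using h
  obtain ⟨-, ⟨v, rfl⟩, hv⟩ := Submodule.exists_mem_ne_zero_of_ne_bot
    (show LinearMap.range N ≠ ⊥ from fun h => by rw [h, finrank_bot] at hrk; omega)
  have hli : LinearIndependent F ![N v, N (τ v)] := LinearIndependent.pair_iff.2 fun a b hab => by
    rw [hNτ] at hab
    have h1 := congrArg τ hab
    rw [map_add, map_smul, map_smul, hτ.sq, map_zero, smul_smul] at h1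
    have h3 : (a ^ 2 - δ * b ^ 2) • N v = 0 := by
      have e : (a ^ 2 - δ * b ^ 2) • N v = a • (a • N v + b • τ (N v)) - b • (a • τ (N v) + (b * δ) • N v) := by
        module
      rw [e, hab, h1, smul_zero, smul_zero, sub_zero]
    by_contra hne
    exact nrm_ne_zero hδ (c := b) (e := a) (by tauto) (by rw [nrm]; exact (smul_eq_zero.1 h3).resolve_right hv)
  have hspan : LinearMap.range N = Submodule.span F (Set.range ![N v, N (τ v)]) := by
    refine (Submodule.eq_of_le_of_finrank_eq (Submodule.span_le.2 ?_) ?_).symm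
    · rintro _ ⟨i, rfl⟩
      fin_cases i
      · exact ⟨v, rfl⟩
      · exact ⟨τ v, rfl⟩
    · rw [finrank_span_eq_card hli, Fintype.card_fin, hrk]
  have hz : ∀ a b, B (N a) (N b) = 0 := fun a b => by
    rw [hS]; exact hperp _ (hNN b) a
  have h00 : B (N v) v = 0 := by
    have h := hid v v
    rw [hz, hS v (N v), add_zero] at h
    exact mul_left_cancel₀ h2 (by linear_combination h)
  have h01 : B (N v) (τ v) = 0 := by
    have h := hid v (τ v)
    rw [hz, hNτ, add_zero] at h
    have h' : B v (τ (N v)) = B (N v) (τ v) := by rw [← hτ.adj, hS]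
    rw [h'] at h
    exact mul_left_cancel₀ h2 (by linear_combination h)
  refine hv (hB _ fun y => ?_)
  have hy : N y ∈ LinearMap.range N := ⟨y, rfl⟩
  rw [hspan] at hy
  obtain ⟨c, hc⟩ := (Submodule.mem_span_range_iff_exists_fun F).1 hy
  rw [Fin.sum_univ_two] at hc
  simp only [Matrix.cons_val_zero, Matrix.cons_val_one] at hc
  have hker : N (y - (c 0 • v + c 1 • τ v)) = 0 := by
    rw [map_sub, map_add, map_smul, map_smul, ← hc, sub_self]
  have h := hperp _ hker v
  rw [hS] at h
  rw [map_sub, map_add, map_smul, map_smul, h00, h01, smul_zero, smul_zero, add_zero, sub_zero] at h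
  exact h

end CfsgLib.OrthSelfAdj
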