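import Cfsg.Agent.Lib.Maximal99.OrthSelfAdj.Pairs
import Cfsg.Agent.Lib.OrthOmega.Adjust
import Cfsg.Agent.Lib.Orth.Omega

/-!
Elements with scalar square normalise a conjugate of a self-adjoint square root of a non-square, the
conjugation being in the kernel of the spinor characters.
-/

set_option autoImplicit false

namespace CfsgLib.OrthSelfAdj

open Module CfsgLib.Orth QuadraticMap

variable {F : Type*} [Field F] {ι : Type} [Fintype ι] [DecidableEq ι] {Q : QuadraticForm F (ι → F)}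

lemma polarBilin_symm (x y : ι → F) : Q.polarBilin x y = Q.polarBilin y x := polar_comm ..

lemma sign_cases : ∀ u v : ℤˣ × ℤˣ, v = (-1, 1) ∨ v = (1, -1) →
    u = 1 ∨ (-1, -1) * u = 1 ∨ u * v = 1 ∨ (-1, -1) * (u * v) = 1 := by
  rintro ⟨u₁, u₂⟩ v (rfl | rfl) <;> rcases Int.units_eq_one_or u₁ with rfl | rfl <;>
    rcases Int.units_eq_one_or u₂ with rfl | rfl <;> decide

variable [Fintype F]

/-- An operator twisted by an isometry of order two, with a reflection moving it. -/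
lemma exists_twisted_one [DecidableEq F] (hQ : Q.polarBilin.Nondegenerate) (h2 : (2 : F) ≠ 0) {d₀ : F}
    (hd₀ : ¬ IsSquare d₀) (δ : F) {m : ℕ} (hcard : Fintype.card ι = 2 * (m + 1)) (x : O Q)
    (hx1 : chiPair Q d₀ x = 1) (hxx : ∀ v, app x (app x v) = v) :
    ∃ τ' : Module.End F (ι → F), IsSA Q.polarBilin τ' δ ∧ ∃ v₀, Q v₀ ≠ 0 ∧
      (∀ v, app x (τ' v) = (1 : F) • τ' (app x v)) ∧
      ∀ v, app (refl Q v₀ * x * refl Q v₀) (τ' v) = (1 : F) • τ' (app (refl Q v₀ * x * refl Q v₀) v) := by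
  set B := Q.polarBilin with hBdef
  have hS : ∀ u v, B u v = B v u := fun u v => polarBilin_symm u v
  set X := app x with hX
  have hXB : ∀ u v, B (X u) (X v) = B u v := fun u v => polar_app x u v
  set Wp : Submodule F (ι → F) := LinearMap.ker (X - LinearMap.id) with hWp
  set Wm : Submodule F (ι → F) := LinearMap.ker (X + LinearMap.id) with hWm
  have hp : ∀ a, a ∈ Wp ↔ X a = a := fun a => by simp [hWp, sub_eq_zero]
  have hm : ∀ a, a ∈ Wm ↔ X a = -a := fun a => by simp [hWm, add_eq_zero_iff_eq_neg]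
  have hcompl : IsCompl Wp Wm := by
    refine ⟨Submodule.disjoint_def.2 fun a ha hb => ?_, codisjoint_iff.2 (Submodule.eq_top_iff'.2 fun a => ?_)⟩
    · rw [hp] at ha; rw [hm, ha] at hb
      have : (2 : F) • a = 0 := by rw [two_smul]; exact add_eq_zero_iff_eq_neg.2 hb
      exact (smul_eq_zero.1 this).resolve_left h2
    · refine Submodule.mem_sup.2 ⟨(2 : F)⁻¹ • (a + X a), (hp _).2 ?_, (2 : F)⁻¹ • (a - X a), (hm _).2 ?_, ?_⟩
      · rw [map_smul, map_add, hxx, add_comm]
      · rw [map_smul, map_sub, hxx, ← smul_neg, neg_sub]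
      · rw [← smul_add, add_add_sub_cancel, ← two_smul F, inv_smul_smul₀ h2]
  have hperp : ∀ a ∈ Wp, ∀ b ∈ Wm, B a b = 0 := fun a ha b hb => by
    have h := hXB a b
    rw [(hp a).1 ha, (hm b).1 hb, map_neg] at h
    exact mul_left_cancel₀ h2 (by linear_combination -h)
  haveI : Invertible (2 : F) := invertibleOfNonzero h2
  obtain ⟨bp, hbp⟩ := LinearMap.BilinForm.exists_orthogonal_basis (B := LinearMap.BilinForm.restrict B Wp) ⟨fun u v => hS _ _⟩
  obtain ⟨bm, hbm⟩ := LinearMap.BilinForm.exists_orthogonal_basis (B := LinearMap.BilinForm.restrict B Wm) ⟨fun u v => hS _ _⟩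
  set b := (bp.prod bm).map (Submodule.prodEquivOfIsCompl Wp Wm hcompl) with hb
  have hbl : ∀ i, b (.inl i) = (bp i : ι → F) := fun i => by simp [hb]
  have hbr : ∀ i, b (.inr i) = (bm i : ι → F) := fun i => by simp [hb]
  have hXb : ∀ i, X (b i) = Sum.elim (fun _ => (1 : F)) (fun _ => -1) i • b i := by
    rintro (i | i)
    · rw [hbl, (hp _).1 (bp i).2, Sum.elim_inl, one_smul]
    · rw [hbr, (hm _).1 (bm i).2, Sum.elim_inr, neg_one_smul]
  have hob : ∀ p q, p ≠ q → B (b p) (b q) = 0 := by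
    rintro (i | i) (j | j) hij <;> simp only [hbl, hbr]
    · exact hbp (fun h => hij (by rw [h]))
    · exact hperp _ (bp i).2 _ (bm j).2
    · rw [hS]; exact hperp _ (bp j).2 _ (bm i).2
    · exact hbm (fun h => hij (by rw [h]))
  have hne : ∀ p, B (b p) (b p) ≠ 0 := fun p h0 => b.ne_zero p (hQ.1 _ fun y => by
    refine LinearMap.congr_fun (b.ext (f₁ := B (b p)) (f₂ := 0) fun q => ?_) y
    rcases eq_or_ne p q with rfl | hpq
    · exact h0
    · exact hob p q hpq)
  -- parity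
  have hdetx : LinearMap.det X = 1 := by
    have h := hx1
    rw [chiPair, MonoidHom.prod_apply, Prod.mk_eq_one] at h
    have hd := detHom_eq hQ h2 hd₀ x
    rw [h.1, h.2, one_mul, map_one] at hd
    have := congrArg Units.val hd
    rw [hX, show app x = Matrix.toLin' ((x : GL ι F) : Matrix ι ι F) from rfl, LinearMap.det_toLin']
    exact this
  have hmev : Even (finrank F Wm) := by
    have hdiag : LinearMap.toMatrix b b X = Matrix.diagonal (Sum.elim (fun _ => (1 : F)) fun _ => -1) := by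
      ext p q
      rw [LinearMap.toMatrix_apply, hXb, map_smul, Basis.repr_self]
      by_cases h : p = q
      · subst h; simp
      · simp [h, Ne.symm h]
    rw [← LinearMap.det_toMatrix b, hdiag, Matrix.det_diagonal, Fintype.prod_sum_type] at hdetx
    simp at hdetx
    refine (neg_one_pow_eq_one_iff_even (fun h => h2 (by linear_combination -h))).1 hdetx
  have hsum : finrank F Wp + finrank F Wm = 2 * (m + 1) := by
    rw [Submodule.finrank_add_eq_of_isCompl hcompl, Module.finrank_fintype_fun_eq_card, hcard]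
  obtain ⟨t, ht⟩ := hmev.two_dvd
  obtain ⟨s, hs⟩ : 2 ∣ finrank F Wp := by omega
  let e : Fin 2 × (Fin s ⊕ Fin t) ≃ Fin (finrank F Wp) ⊕ Fin (finrank F Wm) :=
    (Equiv.prodSumDistrib _ _ _).trans
      (Equiv.sumCongr (finProdFinEquiv.trans (finCongr hs.symm)) (finProdFinEquiv.trans (finCongr ht.symm)))
  set b' := b.reindex e.symm with hb'
  obtain ⟨τ', hτ', α, β, γ, -, hτb⟩ := exists_sa_of_pairs hS h2 b'
    (fun p q hpq => by simpa [hb'] using hob _ _ (fun h => hpq (e.injective h))) (fun p => by simpa [hb'] using hne _) δ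
  have hXb' : ∀ (a : Fin 2) (i : Fin s ⊕ Fin t), X (b' (a, i)) = Sum.elim (fun _ => (1 : F)) (fun _ => -1) i • b' (a, i) := by
    intro a i
    rw [hb', Basis.reindex_apply, Equiv.symm_symm, hXb]
    rcases i with i | i <;> rfl
  have hcm : ∀ v, X (τ' v) = (1 : F) • τ' (X v) := fun v => by
    rw [one_smul]
    refine LinearMap.congr_fun (b'.ext (f₁ := X ∘ₗ τ') (f₂ := τ' ∘ₗ X) fun p => ?_) v
    obtain ⟨a, i⟩ := p
    fin_cases a <;>
      simp only [LinearMap.comp_apply, Fin.zero_eta, Fin.mk_one, Fin.isValue, (hτb i).1, (hτb i).2, map_add, map_sub,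
        map_smul, hXb'] <;> module
  obtain ⟨p₀⟩ : Nonempty (Fin 2 × (Fin s ⊕ Fin t)) := by
    have : 0 < s + t := by omega
    rcases Nat.eq_zero_or_pos s with h | h
    · exact ⟨(0, .inr ⟨0, by omega⟩)⟩
    · exact ⟨(0, .inl ⟨0, h⟩)⟩
  set v₀ := b' p₀ with hv₀
  have hv₀Q : Q v₀ ≠ 0 := fun h0 => hne (e p₀) (by
    have hb'' : b (e p₀) = v₀ := by simp [hv₀, hb']
    rw [hb'']
    show polar Q v₀ v₀ = 0
    rw [polar_self', h0, mul_zero])
  have hconj : x * refl Q v₀ * x⁻¹ = refl Q v₀ := by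
    rw [refl_conj]
    obtain ⟨a₀, i₀ | i₀, hp₀⟩ : ∃ a i, p₀ = (a, i) := ⟨p₀.1, p₀.2, rfl⟩
    all_goals
      subst hp₀
      show refl Q (X (b' _)) = refl Q (b' _)
      rw [hXb']
      simp [refl_neg]
  have hx' : refl Q v₀ * x * refl Q v₀ = x := by
    rw [mul_assoc, show x * refl Q v₀ = refl Q v₀ * x from mul_inv_eq_iff_eq_mul.1 hconj, ← mul_assoc, refl_mul_self,
      one_mul]
  exact ⟨τ', hτ', v₀, hv₀Q, hcm, fun v => by rw [hx']; exact hcm v⟩

/-- The same for square `-1`. -/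
lemma exists_twisted_neg (hQ : Q.polarBilin.Nondegenerate) (h2 : (2 : F) ≠ 0) (δ : F) {m : ℕ}
    (hcard : Fintype.card ι = 2 * (m + 1)) (x : O Q) (hxx : ∀ v, app x (app x v) = -v) :
    ∃ τ' : Module.End F (ι → F), IsSA Q.polarBilin τ' δ ∧ ∃ v₀, Q v₀ ≠ 0 ∧
      (∀ v, app x (τ' v) = (-1 : F) • τ' (app x v)) ∧
      ∀ v, app (refl Q v₀ * x * refl Q v₀) (τ' v) = (-1 : F) • τ' (app (refl Q v₀ * x * refl Q v₀) v) := by
  classical
  set B := Q.polarBilin with hBdef
  have hS : ∀ u v, B u v = B v u := fun u v => polarBilin_symm u v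
  set X : Module.End F (ι → F) := app x with hX
  have hskew : ∀ u v, B (X u) v = - B u (X v) := fun u v => by
    have h : B (X u) (X (X v)) = B u (X v) := polar_app x u (X v)
    rw [hxx, map_neg] at h
    linear_combination -h
  obtain ⟨M, u, hM, hu, ho⟩ := exists_skew_pairs hS h2 hskew hxx ⊤
    (fun a _ h => hQ.1 a fun y => h y Submodule.mem_top) (fun _ _ => Submodule.mem_top)
  rw [finrank_top, Module.finrank_fintype_fun_eq_card, hcard] at hM
  set f : Fin 2 × Fin M → (ι → F) := fun p => ![u p.2, X (u p.2)] p.1 with hf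
  have hperp : ∀ i, B (u i) (X (u i)) = 0 := fun i => by
    have h := hskew (u i) (u i)
    rw [hS (X (u i))] at h
    exact mul_left_cancel₀ h2 (by linear_combination h)
  have hXX : ∀ i, B (X (u i)) (X (u i)) = B (u i) (u i) := fun i => polar_app x _ _
  have hof : ∀ p q, p ≠ q → B (f p) (f q) = 0 := by
    rintro ⟨a, i⟩ ⟨c, j⟩ hpq
    by_cases hij : i = j
    · subst hij
      fin_cases a <;> fin_cases c <;> simp at hpq <;> simp [hf, hperp, hS (X (u i)) (u i)]
    · obtain ⟨h1, h2'⟩ := ho i j hij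
      have h3 : B (X (u i)) (u j) = 0 := by rw [hskew, h2', neg_zero]
      have h4 : B (X (u i)) (X (u j)) = 0 := by rw [show B (X (u i)) (X (u j)) = B (u i) (u j) from polar_app x _ _, h1]
      fin_cases a <;> fin_cases c <;> simp [hf, h1, h2', h3, h4]
  have hnf : ∀ p, B (f p) (f p) ≠ 0 := by
    rintro ⟨a, i⟩
    fin_cases a <;> simp [hf, hXX, (hu i).2]
  have hli : LinearIndependent F f := Fintype.linearIndependent_iff.2 fun g hg p => by
    have h := congrArg (fun v => B v (f p)) hg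
    simp only [map_sum, map_smul, LinearMap.sum_apply, LinearMap.smul_apply, smul_eq_mul, map_zero,
      LinearMap.zero_apply] at h
    rw [Finset.sum_eq_single p (fun q _ hq => by rw [hof q p hq, mul_zero]) (by simp)] at h
    exact (mul_eq_zero.1 h).resolve_right (hnf p)
  let b := Basis.mk hli (hli.span_eq_top_of_card_eq_finrank' (by simp [hcard]; omega)).ge
  have hb : ∀ p, b p = f p := fun p => by simp [b]
  obtain ⟨τ', hτ', α, β, γ, hβγ, hτb⟩ := exists_sa_of_pairs hS h2 b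
    (fun p q hpq => by rw [hb, hb]; exact hof p q hpq) (fun p => by rw [hb]; exact hnf p) δ
  have hbg : ∀ i, γ i = β i := fun i => by
    have h := hβγ i
    rw [hb, hb] at h
    simp only [hf, Matrix.cons_val_zero, Matrix.cons_val_one, hXX] at h
    exact (mul_right_cancel₀ (hu i).2 h).symm
  obtain ⟨i₀⟩ : Nonempty (Fin M) := ⟨⟨0, by omega⟩⟩
  set v₀ := X (u i₀) with hv₀
  have hv₀Q : Q v₀ ≠ 0 := fun h0 => hnf (1, i₀) (by
    show polar Q _ _ = 0
    simp only [hf, Matrix.cons_val_one, Matrix.cons_val_zero]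
    rw [polar_self', h0, mul_zero])
  have key : ∀ (Y : Module.End F (ι → F)) (σ : Fin M → F),
      (∀ i, Y (b (0, i)) = σ i • b (1, i)) → (∀ i, Y (b (1, i)) = - σ i • b (0, i)) →
        ∀ v, Y (τ' v) = (-1 : F) • τ' (Y v) := by
    intro Y σ h0 h1 v
    refine LinearMap.congr_fun (b.ext (f₁ := Y ∘ₗ τ') (f₂ := (-1 : F) • (τ' ∘ₗ Y)) fun p => ?_) v
    obtain ⟨a, i⟩ := p
    fin_cases a <;>
      simp only [LinearMap.comp_apply, LinearMap.smul_apply, Fin.zero_eta, Fin.mk_one, Fin.isValue, h0, h1,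
        (hτb i).1, (hτb i).2, map_add, map_sub, map_smul, hbg] <;> module
  have hb0 : ∀ i, b (0, i) = u i := fun i => by rw [hb]; simp [hf]
  have hb1 : ∀ i, b (1, i) = X (u i) := fun i => by rw [hb]; simp [hf]
  have hXb0 : ∀ i, X (b (0, i)) = (1 : F) • b (1, i) := fun i => by rw [hb0, hb1, one_smul]
  have hXb1 : ∀ i, X (b (1, i)) = -(1 : F) • b (0, i) := fun i => by rw [hb0, hb1, neg_one_smul]; exact hxx _
  refine ⟨τ', hτ', v₀, hv₀Q, key X (fun _ => 1) hXb0 hXb1, ?_⟩
  refine key (app (refl Q v₀ * x * refl Q v₀)) (fun i => if i = i₀ then -1 else 1) (fun i => ?_) (fun i => ?_)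
  all_goals rw [app_mul, app_mul, hb0, hb1]
  · have h1 : app (refl Q v₀) (u i) = u i := app_refl_of_ortho (by
      by_cases hi : i = i₀
      · subst hi; exact hperp i
      · exact (ho i i₀ hi).2)
    rw [h1]
    show app (refl Q v₀) (X (u i)) = _
    by_cases hi : i = i₀
    · subst hi; rw [if_pos rfl, neg_one_smul]; exact app_refl_self hv₀Q
    · rw [if_neg hi, one_smul]
      exact app_refl_of_ortho (show B (X (u i)) (X (u i₀)) = 0 by
        rw [show B (X (u i)) (X (u i₀)) = B (u i) (u i₀) from polar_app x _ _]; exact (ho i i₀ hi).1)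
  · by_cases hi : i = i₀
    · subst hi
      rw [app_refl_self hv₀Q, map_neg, map_neg, if_pos rfl, neg_neg, one_smul, ← hX, hv₀, hxx, map_neg, neg_neg]
      exact app_refl_of_ortho (hperp i)
    · rw [app_refl_of_ortho (show B (X (u i)) (X (u i₀)) = 0 by
        rw [show B (X (u i)) (X (u i₀)) = B (u i) (u i₀) from polar_app x _ _]; exact (ho i i₀ hi).1),
        if_neg hi, neg_one_smul, ← hX, hxx, map_neg]
      exact congrArg Neg.neg (app_refl_of_ortho (ho i i₀ hi).2)

/-- Elements with scalar square. -/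
theorem exists_omega_conj [DecidableEq F] (hQ : Q.polarBilin.Nondegenerate) (h2 : (2 : F) ≠ 0) {d₀ : F}
    (hd₀ : ¬ IsSquare d₀) {δ : F} (hδ : ¬ IsSquare δ) {τ : Module.End F (ι → F)} (hτ : IsSA Q.polarBilin τ δ)
    {m : ℕ} (hm : 1 ≤ m) (hcard : Fintype.card ι = 2 * (m + 1)) (x : O Q) (hx1 : chiPair Q d₀ x = 1)
    {z : F} (hz : z = 1 ∨ z = -1) (hxx : ∀ v, app x (app x v) = z • v) :
    ∃ g : O Q, chiPair Q d₀ g = 1 ∧ ∃ ε : F, ε * ε = 1 ∧
      ∀ v, app (g * x * g⁻¹) (τ v) = ε • τ (app (g * x * g⁻¹) v) := by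
  obtain ⟨τ', hτ', v₀, hv₀, ε, hε, hc, hc'⟩ : ∃ τ' : Module.End F (ι → F), IsSA Q.polarBilin τ' δ ∧ ∃ v₀, Q v₀ ≠ 0 ∧
      ∃ ε : F, ε * ε = 1 ∧ (∀ v, app x (τ' v) = ε • τ' (app x v)) ∧
      ∀ v, app (refl Q v₀ * x * refl Q v₀) (τ' v) = ε • τ' (app (refl Q v₀ * x * refl Q v₀) v) := by
    rcases hz with rfl | rfl
    · obtain ⟨τ', h1, v₀, h2', h3⟩ := exists_twisted_one hQ h2 hd₀ δ hcard x hx1 fun v => by rw [hxx, one_smul]
      exact ⟨τ', h1, v₀, h2', 1, one_mul 1, h3⟩
    · obtain ⟨τ', h1, v₀, h2', h3⟩ := exists_twisted_neg hQ h2 δ hcard x fun v => by rw [hxx, neg_one_smul]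
      exact ⟨τ', h1, v₀, h2', -1, by ring, h3⟩
  have hdim : finrank F (ι → F) = 2 * (m + 1) := by rw [Module.finrank_fintype_fun_eq_card, hcard]
  obtain ⟨g', hg', hg't⟩ := exists_conj (B := Q.polarBilin) polarBilin_symm h2 hQ.1 hδ hτ' hτ hdim
  let g₀ : O Q := CfsgLib.OrthOmega.ofEquiv g' (fun v => mul_left_cancel₀ h2 (by
    rw [← polar_self', ← polar_self']
    exact hg' v v))
  have hg₀ : ∀ v, app g₀ (τ' v) = τ (app g₀ v) := fun v => by
    simp only [g₀, CfsgLib.OrthOmega.app_ofEquiv]; exact hg't v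
  -- the good conjugators
  have hgood : ∀ (g : O Q) (σ : Module.End F (ι → F)), (∀ v, app g (σ v) = τ (app g v)) →
      (∀ v, app x (σ v) = ε • σ (app x v)) → ∀ v, app (g * x * g⁻¹) (τ v) = ε • τ (app (g * x * g⁻¹) v) := by
    intro g σ h1 h3 v
    have h4 : app g⁻¹ (τ v) = σ (app g⁻¹ v) := app_injective g (by rw [app_app_inv, h1, app_app_inv])
    simp only [app_mul]
    rw [h4, h3, map_smul, h1]
  set ρ := refl Q v₀ with hρ
  have hρρ : ∀ v, app ρ (app ρ v) = v := fun v => by rw [← app_mul, hρ, refl_mul_self, app_one]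
  let τ'' : Module.End F (ι → F) := app ρ ∘ₗ τ' ∘ₗ app ρ
  have h0'' : ∀ v, app (g₀ * ρ) (τ'' v) = τ (app (g₀ * ρ) v) := fun v => by
    show app (g₀ * ρ) (app ρ (τ' (app ρ v))) = _
    rw [app_mul, app_mul, hρρ, hg₀]
  have hc'' : ∀ v, app x (τ'' v) = ε • τ'' (app x v) := fun v => by
    show app x (app ρ (τ' (app ρ v))) = ε • app ρ (τ' (app ρ (app x v)))
    have h := congrArg (app ρ) (hc' (app ρ v))
    simp only [app_mul, map_smul] at h
    rw [hρρ, hρρ] at h
    exact h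
  -- the correcting element
  obtain ⟨w, -, hwc, hwe⟩ := exists_value (B := Q.polarBilin) polarBilin_symm h2 (R := ⊤)
    (fun a _ h => hQ.1 a fun y => h y Submodule.mem_top) hδ hτ (fun _ _ => Submodule.mem_top)
    (by rw [finrank_top, hdim]; omega) (c := 2) (e := 0) (Or.inl h2)
  have hwc' : polar Q w w = 2 := hwc
  have hwe' : polar Q w (τ w) = 0 := hwe
  have hQw : Q w = 1 := mul_left_cancel₀ h2 (by rw [← polar_self', hwc', mul_one])
  have hτw : polar Q (τ w) (τ w) = δ * 2 := by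
    have h := hτ.adj w (τ w)
    simp only [polarBilin_apply_apply] at h
    rw [h, hτ.sq, polar_smul_right, hwc', smul_eq_mul]
  have hQτw : Q (τ w) = δ := mul_left_cancel₀ h2 (by rw [← polar_self', hτw, mul_comm])
  have hδ0 : δ ≠ 0 := fun h => hδ (h ▸ IsSquare.zero)
  obtain ⟨a, ha⟩ : ∃ a : O Q, a = refl Q w * refl Q (τ w) := ⟨_, rfl⟩
  have hat : ∀ v, app a (τ v) = τ (app a v) := by
    intro v
    have e1 : polar Q (τ v) w = polar Q v (τ w) := by simpa using hτ.adj v w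
    have e2 : polar Q (τ v) (τ w) = δ * polar Q v w := by
      have h := hτ.adj v (τ w)
      simp only [polarBilin_apply_apply] at h
      rw [h, hτ.sq, polar_smul_right, smul_eq_mul]
    simp only [ha, app_mul, app_refl, hQw, hQτw, inv_one, one_mul, map_sub, map_smul, hτ.sq, polar_sub_left,
      polar_smul_left, smul_eq_mul, e1, e2, hwe', polar_comm (f := ⇑Q) (τ w) w, mul_zero, sub_zero]
    match_scalars <;> first | ring1 | (field_simp; ring1)
  have hchia : chiPair Q d₀ a = (-1, -1) := by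
    rw [ha, map_mul, chiPair_refl h2 hd₀ (by rw [hQw]; exact one_ne_zero), chiPair_refl h2 hd₀ (by rw [hQτw]; exact hδ0),
      hQw, hQτw, if_pos IsSquare.one, if_neg hδ]
    decide
  have hchiρ : chiPair Q d₀ ρ = (-1, 1) ∨ chiPair Q d₀ ρ = (1, -1) := by
    rw [hρ, chiPair_refl h2 hd₀ hv₀]; split_ifs <;> simp
  have hleft : ∀ (g : O Q) (σ : Module.End F (ι → F)), (∀ v, app g (σ v) = τ (app g v)) →
      ∀ v, app (a * g) (σ v) = τ (app (a * g) v) := fun g σ h v => by rw [app_mul, app_mul, h, hat]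
  rcases sign_cases (chiPair Q d₀ g₀) (chiPair Q d₀ ρ) hchiρ with h | h | h | h
  · exact ⟨g₀, h, ε, hε, hgood g₀ τ' hg₀ hc⟩
  · exact ⟨a * g₀, by rw [map_mul, hchia, h], ε, hε, hgood _ τ' (hleft g₀ τ' hg₀) hc⟩
  · exact ⟨g₀ * ρ, by rw [map_mul, h], ε, hε, hgood _ τ'' h0'' hc''⟩
  · exact ⟨a * (g₀ * ρ), by rw [map_mul, map_mul, hchia, h], ε, hε, hgood _ τ'' (hleft _ τ'' h0'') hc''⟩

end CfsgLib.OrthSelfAdj
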