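import Cfsg.Agent.Lib.Maximal99.OrthSelfAdj.Elements
import Cfsg.Agent.Lib.Maximal99.OrthSelfAdj.Involutions
import Cfsg.Agent.Lib.Maximal99.OrthSelfAdj.Count
import Cfsg.Agent.Lib.Recog.OmegaNine.Split
import Cfsg.Agent.Lib.OrthOmega.Invariant

/-!
The criterion: all elements of order `r` of `PΩ(Q)` normalise a conjugate of a self-adjoint quadratic field
subalgebra if and only if `r = 2`, for `r` dividing the index of the normaliser.
-/

set_option autoImplicit false

namespace CfsgLib.OrthSelfAdj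

open Module Matrix QuadraticMap CfsgLib.Orth CfsgLib.RankProfile CfsgLib.OrthUnipotent CfsgLib.Recog.OmegaNine

variable {F : Type*} [Field F] [Fintype F] {ι : Type} [Fintype ι] [DecidableEq ι]

/-- An isometry of order `r` with small moved space in a form containing a suitable subspace. -/
lemma exists_small_element [DecidableEq F] {q r h : ℕ} (hq : Fintype.card F = q) (hodd : Odd q) (h2 : (2 : F) ≠ 0)
    [Fact r.Prime] {Q : QuadraticForm F (ι → F)} (hQ : Q.polarBilin.Nondegenerate) (hh : 0 < h)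
    (hlt : 2 * h < Fintype.card ι) {δ : F} (hδ : ¬ IsSquare δ)
    (hcase : orderOf (q : ZMod r) = h ∨ (orderOf (q : ZMod r) = 2 * h ∧ (q : ZMod r) ^ h = -1)) :
    ∃ g : O Q, orderOf g = r ∧ finrank F ↥(LinearMap.range (app g - LinearMap.id)) ≤ 2 * h := by
  classical
  obtain ⟨h', rfl⟩ : ∃ h', h = h' + 1 := ⟨h - 1, by omega⟩
  have hr : r.Prime := Fact.out
  suffices key : ∀ (κ : Type) [Fintype κ] [DecidableEq κ] (Qa : QuadraticForm F (κ → F)),
      Fintype.card κ = 2 * (h' + 1) → Qa.polarBilin.Nondegenerate → r ∣ Nat.card (O Qa) →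
        ∃ g : O Q, orderOf g = r ∧ finrank F ↥(LinearMap.range (app g - LinearMap.id)) ≤ 2 * (h' + 1) by
    rcases hcase with ho | ⟨-, hneg⟩
    · refine key (Fin (h' + 1) ⊕ Fin (h' + 1)) (qf (plus_nondeg _)) (by simp; ring) (qf_nondeg _) ?_
      have hd : r ∣ q ^ (h' + 1) - 1 := (CfsgLib.OrderR.orderOf_dvd_iff hodd.pos).1 (ho ▸ dvd_rfl)
      show r ∣ Nat.card (Cfsg.isometryGroup F (Cfsg.quadFormPlus (h' + 1) F))
      rw [CfsgLib.ClassicalGroups.card_isometry_plus, hq]
      exact dvd_mul_of_dvd_left (hd.mul_left _) _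
    · have hab : ∀ x y : F, x ^ 2 + 0 * x * y + (-δ) * y ^ 2 = 0 → x = 0 ∧ y = 0 := fun x y h => by
        by_cases hy : y = 0
        · subst hy; exact ⟨by simpa using h, rfl⟩
        · exact absurd ⟨x / y, by field_simp; linear_combination -h⟩ hδ
      refine key ((Fin h' ⊕ Fin h') ⊕ Fin 2) (qf (minus_nondeg _ 0 (-δ) h2 hab)) (by simp; ring) (qf_nondeg _) ?_
      show r ∣ Nat.card (Cfsg.isometryGroup F (Cfsg.quadFormMinus h' F 0 (-δ)))
      rw [CfsgLib.ClassicalGroups.card_isometry_minus hab, hq]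
      refine dvd_mul_of_dvd_left (Dvd.dvd.mul_left ?_ _) _
      rw [← ZMod.natCast_eq_zero_iff]
      push_cast
      rw [hneg]; ring
  intro κ _ _ Qa hκ hQa hdvd
  obtain ⟨Qμ, hQμ, hdet⟩ := exists_form h2 (m := Fintype.card ι - 2 * (h' + 1)) (by omega)
    (mul_ne_zero (CfsgLib.QuadFin.gram_det_ne_zero Qa hQa) (CfsgLib.QuadFin.gram_det_ne_zero Q hQ))
  obtain ⟨S⟩ := exists_sum h2 Qa Qμ Q hQa hQμ hQ (by rw [hκ, Fintype.card_fin]; omega)
    ⟨(CfsgLib.QuadFin.gram ⇑Qa).det * (CfsgLib.QuadFin.gram ⇑Q).det, by rw [hdet]; ring⟩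
  obtain ⟨a, ha⟩ := exists_prime_orderOf_dvd_card' r hdvd
  refine ⟨S.J (a, 1), by rw [S.orderOf_J, ha, orderOf_one, Nat.lcm_one_right], ?_⟩
  have hle : LinearMap.range (app (S.J (a, 1)) - LinearMap.id) ≤
      LinearMap.range (S.E.toLinearMap ∘ₗ LinearMap.inl F (κ → F) (Fin (Fintype.card ι - 2 * (h' + 1)) → F)) := by
    rintro _ ⟨v, rfl⟩
    obtain ⟨⟨x, y⟩, rfl⟩ := S.E.surjective v
    refine ⟨app a x - x, ?_⟩
    rw [LinearMap.sub_apply, LinearMap.id_apply, S.app_J, ← map_sub, LinearMap.comp_apply, LinearMap.inl_apply]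
    simp
  refine (Submodule.finrank_mono hle).trans ((LinearMap.finrank_range_le _).trans ?_)
  rw [Module.finrank_fintype_fun_eq_card, hκ]

set_option maxHeartbeats 1600000 in
/-- The criterion. -/
theorem criterion {p q : ℕ} [Fact p.Prime] [CharP F p] (hq : Fintype.card F = q) (hodd : Odd q)
    {Q : QuadraticForm F (ι → F)} (hQ : Q.polarBilin.Nondegenerate) {m : ℕ} (hm : 3 ≤ m)
    (hcard : Fintype.card ι = 2 * (m + 1))
    (hsign : (IsSquare ((-1 : F) ^ (m + 1) * (CfsgLib.QuadFin.gram ⇑Q).det) ∧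
        Nat.card (O Q) = 2 * q ^ ((m + 1) * m) * (q ^ (m + 1) - 1) * ∏ i ∈ Finset.range m, (q ^ (2 * (i + 1)) - 1)) ∨
      (¬ IsSquare ((-1 : F) ^ (m + 1) * (CfsgLib.QuadFin.gram ⇑Q).det) ∧
        Nat.card (O Q) = 2 * q ^ ((m + 1) * m) * (q ^ (m + 1) + 1) * ∏ i ∈ Finset.range m, (q ^ (2 * (i + 1)) - 1)))
    {K : Subalgebra F (Matrix ι ι F)} (hK : Cfsg.Geo.IsFieldSubalgebra 2 K)
    (hKf : Cfsg.Geo.IsSelfAdjointFor (QuadraticMap.polar ⇑Q) K)
    {r : ℕ} [Fact r.Prime] (hΩ : r ∣ (Cfsg.Geo.subalgebraNormalizer K).relIndex (Cfsg.Geo.omegaGL ⇑Q)) :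
    (∀ x ∈ Cfsg.Geo.omegaGL ⇑Q, (∃ z : F, ((x ^ r : GL ι F) : Matrix ι ι F) = z • (1 : Matrix ι ι F)) →
      (∀ z : F, (x : Matrix ι ι F) ≠ z • (1 : Matrix ι ι F)) →
      ∃ g ∈ Cfsg.Geo.omegaGL ⇑Q, g⁻¹ * x * g ∈ Cfsg.Geo.subalgebraNormalizer K) ↔ r = 2 := by
  classical
  have h2 : (2 : F) ≠ 0 := by
    intro h
    have hchar : ringChar F = 2 := CharP.ringChar_of_prime_eq_zero Nat.prime_two (by exact_mod_cast h)
    have := FiniteField.even_card_of_char_two hchar
    rw [hq] at this
    exact Nat.not_even_iff_odd.2 hodd (Nat.even_iff.2 this)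
  haveI : Nonempty ι := Fintype.card_pos_iff.1 (by omega)
  set B := Q.polarBilin with hBdef
  have hS : ∀ u v, B u v = B v u := fun u v => polar_comm ..
  obtain ⟨τ, δ, hM⟩ := exists_model (B := B) h2 hK hKf
  set τl : Module.End F (ι → F) := Matrix.toLin' τ with hτl
  have hdim : finrank F (ι → F) = 2 * (m + 1) := by rw [Module.finrank_fintype_fun_eq_card, hcard]
  constructor
  · intro hall
    by_contra hr2
    have hr : r.Prime := Fact.out
    have hrodd : Odd r := hr.odd_of_ne_two hr2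
    suffices hx : ∃ x : O Q, x ∈ Cfsg.Omega F ⇑Q ∧ x ^ r = 1 ∧ x ≠ 1 ∧
        ∀ τ' : Module.End F (ι → F), IsSA B τ' δ → τ' * app x ≠ app x * τ' by
      obtain ⟨x, hxΩ, hxr, hx1, hno⟩ := hx
      obtain ⟨g', ⟨g, hgΩ, rfl⟩, hy⟩ := hall (x : GL ι F) ⟨x, hxΩ, rfl⟩ ⟨1, by
          rw [← SubmonoidClass.coe_pow, hxr]; simp⟩ (fun z hz => hx1 (ext_app fun v => by
          rw [app_one, app_apply, hz, Matrix.smul_mulVec, Matrix.one_mulVec]
          have hne : z = 1 := by
            obtain ⟨w, hw⟩ := exists_ne (0 : ι → F)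
            have hzr : z ^ r = 1 := by
              have h := congrArg (fun y : O Q => ((y : GL ι F) : Matrix ι ι F)) hxr
              simp only [SubmonoidClass.coe_pow, Units.val_pow_eq_pow_val, hz, _root_.smul_pow, one_pow,
                OneMemClass.coe_one, Units.val_one] at h
              exact smul_left_injective F (one_ne_zero (α := Matrix ι ι F)) (h.trans (one_smul F _).symm)
            obtain ⟨u, hu⟩ := exists_polar_eq_one hQ hw
            have h := polar_app x w u
            simp only [app_apply, hz, Matrix.smul_mulVec, Matrix.one_mulVec, polar_smul_left, polar_smul_right, hu,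
              smul_eq_mul, mul_one] at h
            have := pow_gcd_eq_one.2 ⟨hzr, (show z ^ 2 = 1 by rw [pow_two]; exact h)⟩
            rwa [Nat.coprime_two_right.2 hrodd, pow_one] at this
          rw [hne, one_smul]))
      obtain ⟨ε, hε, hyv⟩ := (hM.mem_normalizer h2 _).1 hy
      obtain ⟨y, hydef⟩ : ∃ y : O Q, y = g⁻¹ * x * g := ⟨_, rfl⟩
      have hyv' : ∀ v, app y (τl v) = ε • τl (app y v) := hydef ▸ hyv
      have hpow : ∀ n : ℕ, ∀ v, app (y ^ n) (τl v) = ε ^ n • τl (app (y ^ n) v) := by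
        intro n
        induction n with
        | zero => intro v; simp
        | succ n ih => intro v; rw [pow_succ', app_mul, ih, map_smul, hyv', app_mul, smul_smul, pow_succ]
      have hyr : y ^ r = 1 := by
        have h : y ^ r = g⁻¹ * x ^ r * g := by
          have := conj_pow (a := g⁻¹) (b := x) (i := r)
          rwa [inv_inv, ← hydef] at this
        rw [h, hxr, mul_one, inv_mul_cancel]
      have hε1 : ε = 1 := by
        obtain ⟨w, hw⟩ := exists_ne (0 : ι → F)
        have h := hpow r w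
        rw [hyr, app_one, app_one] at h
        have hτw : τl w ≠ 0 := fun h0 => hw (by
          have h' := hM.isSA.sq w
          rw [← hτl, h0, map_zero] at h'
          exact (smul_eq_zero.1 h'.symm).resolve_left fun h1 => hM.nonsq (h1 ▸ IsSquare.zero))
        have hεr : ε ^ r = 1 := (smul_left_injective F hτw (by simpa using h.symm : ε ^ r • τl w = (1 : F) • τl w))
        have := pow_gcd_eq_one.2 ⟨hεr, (show ε ^ 2 = 1 by rw [pow_two]; exact hε)⟩
        rwa [Nat.coprime_two_right.2 hrodd, pow_one] at this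
      refine hno (app g ∘ₗ τl ∘ₗ app g⁻¹) ⟨fun u v => ?_, fun v => ?_⟩ (LinearMap.ext fun v => ?_)
      · show polar Q (app g (τl (app g⁻¹ u))) v = polar Q u (app g (τl (app g⁻¹ v)))
        rw [← app_app_inv g v, polar_app, app_inv_app, ← app_app_inv g u, polar_app, app_inv_app]
        exact hM.isSA.adj _ _
      · show app g (τl (app g⁻¹ (app g (τl (app g⁻¹ v))))) = δ • v
        rw [app_inv_app, hM.isSA.sq, map_smul, app_app_inv]
      · show app g (τl (app g⁻¹ (app x v))) = app x (app g (τl (app g⁻¹ v)))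
        have e : ∀ w, app g⁻¹ (app x w) = app y (app g⁻¹ w) := fun w => by
          rw [hydef, app_mul, app_mul, app_app_inv]
        apply app_injective g⁻¹
        rw [app_inv_app, e, e, app_inv_app, hyv', hε1, one_smul]
    have hmemΩ : ∀ x : O Q, x ^ r = 1 → x ∈ Cfsg.Omega F ⇑Q := fun x hx =>
      (CfsgLib.OrthOmega.mem_omega_odd hQ h2 hM.nonsq x).2 (chiPair_eq_one_of_pow x hrodd hx)
    have hTpow : ∀ (x : O Q) (n : ℕ), (app x : Module.End F (ι → F)) ^ n = app (x ^ n) := fun x n => by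
      induction n with
      | zero => exact LinearMap.ext fun v => (app_one v).symm
      | succ n ih => exact LinearMap.ext fun v => by rw [pow_succ', Module.End.mul_apply, ih, pow_succ', app_mul]
    by_cases hrp : r = p
    · subst hrp
      obtain ⟨x, hxΩ, hxr, hprof⟩ := exists_omega_unipotent (p := r) hr2 (Q := ⇑Q)
        ⟨fun c v => by rw [QuadraticMap.map_smul, smul_eq_mul, pow_two],
          ⟨fun a b c => polar_add_left Q a b c, fun a b c => by rw [polar_smul_left, smul_eq_mul],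
            fun a b c => polar_add_right Q a b c, fun a b c => by rw [polar_smul_right, smul_eq_mul]⟩,
          fun v hv => by
            obtain ⟨u, hu⟩ := exists_polar_eq_one hQ hv
            exact ⟨⟨u, by rw [polar_comm, hu]; exact one_ne_zero⟩, ⟨u, by rw [hu]; exact one_ne_zero⟩⟩⟩
        (μ := Multiset.replicate 2 2 + Multiset.replicate (2 * m - 2) 1)
        (fun a ha => by
          have := hr.two_le
          rw [Multiset.mem_add] at ha
          rcases ha with ha | ha <;> rw [Multiset.eq_of_mem_replicate ha] <;> omega)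
        (fun e he => by
          rw [Multiset.count_add, Multiset.count_replicate, Multiset.count_replicate,
            if_neg (show ¬ (1 = e) by rintro rfl; exact absurd he (by decide))]
          split_ifs <;> decide)
        ⟨1, Multiset.mem_add.2 (Or.inr (Multiset.mem_replicate.2 ⟨by omega, rfl⟩)), odd_one⟩
        (by
          rw [Multiset.sum_add, Multiset.sum_replicate, Multiset.sum_replicate, smul_eq_mul, smul_eq_mul, hcard]
          omega)
      obtain ⟨X, hXΩ, rfl⟩ := hxΩ
      have hXr : X ^ r = 1 := Subtype.ext (by simpa using hxr)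
      have hN : Matrix.toLin' (((X : GL ι F) : Matrix ι ι F) - 1) = (app X - 1 : Module.End F (ι → F)) := by
        rw [map_sub, Matrix.toLin'_one]; rfl
      have hk : ∀ k, finrank F ↥(LinearMap.range ((app X - 1 : Module.End F (ι → F)) ^ k)) =
          partProfile (Multiset.replicate 2 2) k + partProfile (Multiset.replicate (2 * m - 2) 1) k := fun k => by
        rw [← partProfile_add, ← hN]; exact (imDim_top _ _).symm.trans (hprof k)
      have h1 := hk 1
      have h2' := hk 2
      rw [pow_one] at h1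
      rw [partProfile_eq_zero (μ := Multiset.replicate (2 * m - 2) 1) (fun a ha => (Multiset.eq_of_mem_replicate ha).le),
        add_zero, show partProfile (Multiset.replicate 2 2) 1 = 2 from rfl] at h1
      rw [partProfile_eq_zero (μ := Multiset.replicate 2 2) (fun a ha => (Multiset.eq_of_mem_replicate ha).le),
        partProfile_eq_zero (fun a ha => (Multiset.eq_of_mem_replicate ha).le.trans one_le_two), add_zero] at h2'
      refine ⟨X, hXΩ, hXr, fun h0 => ?_, fun τ' hτ' => no_comm_of_plane hS hQ.1 h2 (fun a b => polar_app X a b)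
        (LinearMap.range_eq_bot.1 (Submodule.finrank_eq_zero.1 h2')) h1 hM.nonsq hτ'⟩
      rw [h0, show (app (1 : O Q) : Module.End F (ι → F)) = 1 from LinearMap.ext fun v => app_one v, sub_self,
        LinearMap.range_zero, finrank_bot] at h1
      omega
    · have hr0 : (r : F) ≠ 0 := CfsgLib.OrderR.cast_ne_zero hrp
      have hrq : (q : ZMod r) ≠ 0 := CfsgLib.OrderR.natCast_ne_zero_of_card hq hrp
      obtain ⟨h, hh, hhd, hcase⟩ := exists_half_of_index hq hodd h2 hQ hK hM (by omega) hcard hsign hr2 hrp hΩ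
      obtain ⟨x, hxo, hle⟩ : ∃ x : O Q, orderOf x = r ∧ finrank F ↥(LinearMap.range (app x - LinearMap.id)) ≤ 2 * h := by
        rcases Nat.lt_or_ge h (m + 1) with hlt | hge
        · exact exists_small_element hq hodd h2 hQ hh.pos (by omega) hM.nonsq hcase
        · obtain ⟨x, hx⟩ := exists_prime_orderOf_dvd_card' (G := ↥(Cfsg.Geo.omegaGL ⇑Q)) r
            (hΩ.trans (Subgroup.relIndex_dvd_card _ _))
          obtain ⟨X, hX, hXx⟩ := x.2
          refine ⟨X, ?_, (Submodule.finrank_le _).trans (by omega)⟩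
          rw [← Subgroup.orderOf_coe X, show (X : GL ι F) = x from hXx, Subgroup.orderOf_coe, hx]
      have hxr : x ^ r = 1 := hxo ▸ pow_orderOf_eq_one x
      have hx1 : x ≠ 1 := fun h0 => hr.ne_one (by rw [← hxo, h0, orderOf_one])
      refine ⟨x, hmemΩ x hxr, hxr, hx1, fun τ' hτ' => ?_⟩
      refine no_comm_of_order hS hQ.1 h2 hr2 hq hodd hr0 hrq ?_ (fun a b => polar_app x a b) hh hcase ?_ hle hM.nonsq hτ'
      · rw [hTpow, hxr]; exact LinearMap.ext fun v => app_one v
      · exact fun h0 => hx1 (ext_app fun v => by rw [h0]; simp)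
  · rintro rfl x hx ⟨z, hz⟩ -
    obtain ⟨X, hXΩ, rfl⟩ := hx
    rw [Units.val_pow_eq_pow_val] at hz
    have hxx : ∀ v, app X (app X v) = z • v := fun v => by
      rw [app_apply, app_apply, Matrix.mulVec_mulVec, ← pow_two,
        show (((X : GL ι F) : Matrix ι ι F)) = (((O Q).subtype X : GL ι F) : Matrix ι ι F) from rfl, hz,
        Matrix.smul_mulVec, Matrix.one_mulVec]
    have hzz : z = 1 ∨ z = -1 := by
      obtain ⟨w, hw⟩ := exists_ne (0 : ι → F)
      obtain ⟨u, hu⟩ := exists_polar_eq_one hQ hw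
      have h := polar_app X (app X w) (app X u)
      rw [hxx, hxx, polar_app, polar_smul_left, polar_smul_right, hu, smul_eq_mul, smul_eq_mul, mul_one] at h
      exact mul_self_eq_one_iff.1 h
    obtain ⟨g, hg, ε, hε, hgv⟩ := exists_omega_conj hQ h2 hM.nonsq hM.nonsq hM.isSA (by omega) hcard X
      ((CfsgLib.OrthOmega.mem_omega_odd hQ h2 hM.nonsq X).1 hXΩ) hzz hxx
    refine ⟨((g⁻¹ : O Q) : GL ι F), ⟨g⁻¹, (CfsgLib.OrthOmega.mem_omega_odd hQ h2 hM.nonsq _).2 (by
      rw [map_inv, hg, inv_one]), rfl⟩, ?_⟩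
    refine (hM.mem_normalizer h2 _).2 ⟨ε, hε, ?_⟩
    rw [Subgroup.coe_inv, inv_inv]
    exact hgv

end CfsgLib.OrthSelfAdj
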