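import Mathlib

/-!
Self-adjoint operators `τ` with `τ² = δ`, `δ` a non-square, for a symmetric bilinear form over a finite
field of odd order: adapted bases and conjugacy.
-/

set_option autoImplicit false

namespace CfsgLib.OrthSelfAdj

open Module Polynomial

variable {F : Type*} [Field F]

/-- The norm of `e + c√δ`. -/
def nrm (δ c e : F) : F := e ^ 2 - δ * c ^ 2

lemma nrm_ne_zero {δ : F} (hδ : ¬ IsSquare δ) {c e : F} (h : c ≠ 0 ∨ e ≠ 0) : nrm δ c e ≠ 0 := by
  intro h0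
  rcases eq_or_ne c 0 with rfl | hc
  · simp [nrm] at h0
    exact h.elim (fun h => h rfl) fun h => h h0
  · refine hδ ⟨e / c, ?_⟩
    field_simp
    rw [nrm] at h0
    linear_combination -h0

lemma isSquare_mul_iff [Fintype F] {a b : F} (ha : a ≠ 0) (hb : b ≠ 0) :
    IsSquare (a * b) ↔ (IsSquare a ↔ IsSquare b) := by
  classical
  rw [← quadraticChar_one_iff_isSquare (mul_ne_zero ha hb), ← quadraticChar_one_iff_isSquare ha,
    ← quadraticChar_one_iff_isSquare hb, map_mul]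
  rcases quadraticChar_dichotomy ha with h | h <;> rcases quadraticChar_dichotomy hb with h' | h' <;>
    simp [h, h']

lemma exists_nrm_eq [Fintype F] (h2 : (2 : F) ≠ 0) {δ : F} (hδ : δ ≠ 0) (D : F) :
    ∃ c e : F, nrm δ c e = D := by
  have hodd : Fintype.card F % 2 = 1 :=
    FiniteField.odd_card_of_char_ne_two (fun h => h2 (by
      haveI := ringChar.of_eq h
      exact CharP.ofNat_eq_zero F 2))
  obtain ⟨a, b, h⟩ := FiniteField.exists_root_sum_quadratic (f := (X ^ 2 - C D : F[X])) (g := C (-δ) * X ^ 2)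
    (Polynomial.degree_X_pow_sub_C (by norm_num) _) (Polynomial.degree_C_mul_X_pow 2 (neg_ne_zero.2 hδ)) hodd
  simp only [eval_sub, eval_pow, eval_X, eval_C, eval_mul] at h
  exact ⟨b, a, by rw [nrm]; linear_combination h⟩

/-- An element of square norm is a square. -/
lemma exists_sqrt [Fintype F] (h2 : (2 : F) ≠ 0) {δ : F} (hδ : ¬ IsSquare δ) {r s n : F}
    (h : r ^ 2 - δ * s ^ 2 = n ^ 2) : ∃ a b : F, a ^ 2 + δ * b ^ 2 = r ∧ 2 * a * b = s := by
  have hδ0 : δ ≠ 0 := fun h => hδ (h ▸ IsSquare.zero)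
  rcases eq_or_ne s 0 with rfl | hs
  · by_cases hr : IsSquare r
    · obtain ⟨a, rfl⟩ := hr
      exact ⟨a, 0, by ring, by ring⟩
    · have hr0 : r ≠ 0 := fun h => hr (h ▸ IsSquare.zero)
      obtain ⟨b, hb⟩ := (isSquare_mul_iff hr0 hδ0).2 (iff_of_false hr hδ)
      refine ⟨0, b / δ, ?_, by ring⟩
      field_simp
      linear_combination -hb
  · have key : ∀ m : F, m ^ 2 = n ^ 2 → IsSquare ((r + m) / 2) → ∃ a b : F, a ^ 2 + δ * b ^ 2 = r ∧ 2 * a * b = s := by
      rintro m hm ⟨a, ha⟩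
      have hprod : ((r + m) / 2) * ((r - m) / 2) = δ * (s / 2) ^ 2 := by
        field_simp
        linear_combination h + -1 * hm
      have ha0 : a ≠ 0 := fun h0 => by
        rw [ha, h0, zero_mul, zero_mul, eq_comm, mul_eq_zero] at hprod
        exact pow_ne_zero 2 (div_ne_zero hs h2) (hprod.resolve_left hδ0)
      refine ⟨a, s / (2 * a), ?_, by field_simp⟩
      rw [ha] at hprod
      field_simp at hprod ha ⊢
      linear_combination -hprod - 2 * a ^ 2 * ha
    by_cases hp : IsSquare ((r + n) / 2)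
    · exact key n rfl hp
    · refine key (-n) (neg_sq n) ?_
      have hprod : ((r + n) / 2) * ((r + -n) / 2) = δ * (s / 2) ^ 2 := by
        field_simp
        linear_combination h
      have hne : ((r + n) / 2) * ((r + -n) / 2) ≠ 0 :=
        hprod ▸ mul_ne_zero hδ0 (pow_ne_zero 2 (div_ne_zero hs h2))
      have hns : ¬ IsSquare (((r + n) / 2) * ((r + -n) / 2)) := by
        rw [hprod]
        intro hsq
        exact hδ (by simpa [hs, h2] using hsq.div (IsSquare.sq (s / 2)))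
      rw [isSquare_mul_iff (left_ne_zero_of_mul hne) (right_ne_zero_of_mul hne)] at hns
      by_contra hh
      exact hns (iff_of_false hp hh)

variable {V : Type*} [AddCommGroup V] [Module F V]

/-- A self-adjoint operator with square `δ`. -/
structure IsSA (B : LinearMap.BilinForm F V) (τ : Module.End F V) (δ : F) : Prop where
  adj : ∀ u v, B (τ u) v = B u (τ v)
  sq : ∀ v, τ (τ v) = δ • v

/-- The restriction is non-degenerate. -/
def NdOn (B : LinearMap.BilinForm F V) (R : Submodule F V) : Prop :=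
  ∀ x ∈ R, (∀ y ∈ R, B x y = 0) → x = 0

variable {B : LinearMap.BilinForm F V} (hS : ∀ x y, B x y = B y x)
include hS

lemma values_comb {τ : Module.End F V} {δ : F} (hτ : IsSA B τ δ) (w : V) (a b : F) :
    B (a • w + b • τ w) (a • w + b • τ w) = (a ^ 2 + δ * b ^ 2) * B w w + 2 * a * b * B w (τ w) ∧
      B (a • w + b • τ w) (τ (a • w + b • τ w)) =
        (a ^ 2 + δ * b ^ 2) * B w (τ w) + 2 * a * b * δ * B w w := by
  simp only [map_add, map_smul, LinearMap.add_apply, LinearMap.smul_apply, hτ.sq, smul_eq_mul, hτ.adj w w,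
    hτ.adj w (τ w), hS (τ w) w]
  constructor <;> ring

/-- Rescaling inside a line over the extension field. -/
lemma exists_scale [Fintype F] (h2 : (2 : F) ≠ 0) {τ : Module.End F V} {δ : F} (hδ : ¬ IsSquare δ)
    (hτ : IsSA B τ δ) {w : V} (hw : B w w ≠ 0 ∨ B w (τ w) ≠ 0) {c e : F}
    (hsq : IsSquare (nrm δ c e * nrm δ (B w w) (B w (τ w)))) :
    ∃ a b : F, B (a • w + b • τ w) (a • w + b • τ w) = c ∧ B (a • w + b • τ w) (τ (a • w + b • τ w)) = e := by
  set c' := B w w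
  set e' := B w (τ w)
  have hN : nrm δ c' e' ≠ 0 := nrm_ne_zero hδ hw
  obtain ⟨n, hn⟩ := hsq
  obtain ⟨a, b, h1, h2'⟩ := exists_sqrt h2 hδ (r := (e * e' - δ * c * c') / nrm δ c' e')
    (s := (c * e' - e * c') / nrm δ c' e') (n := n / nrm δ c' e') (by
      field_simp
      rw [nrm, nrm] at *
      linear_combination hn)
  refine ⟨a, b, ?_, ?_⟩
  · rw [(values_comb hS hτ w a b).1, h1, h2']
    field_simp
    rw [nrm]; ring
  · rw [(values_comb hS hτ w a b).2, h1, h2']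
    field_simp
    rw [nrm]; ring

lemma exists_aniso (h2 : (2 : F) ≠ 0) {R : Submodule F V} (hR : NdOn B R) (hne : R ≠ ⊥) :
    ∃ w ∈ R, B w w ≠ 0 := by
  by_contra hcon
  push Not at hcon
  refine hne ((Submodule.eq_bot_iff _).2 fun u hu => hR u hu fun v hv => ?_)
  have h := hcon (u + v) (R.add_mem hu hv)
  simp only [map_add, LinearMap.add_apply, hcon u hu, hcon v hv, hS v u] at h
  exact mul_left_cancel₀ h2 (by linear_combination h)

variable [FiniteDimensional F V]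

/-- Splitting off a non-degenerate plane. -/
lemma split {R : Submodule F V} (hR : NdOn B R) {u v : V} (hu : u ∈ R) (hv : v ∈ R)
    (hdet : B u u * B v v - B u v ^ 2 ≠ 0) :
    NdOn B (R ⊓ LinearMap.ker (B u) ⊓ LinearMap.ker (B v)) ∧
      finrank F ↥(R ⊓ LinearMap.ker (B u) ⊓ LinearMap.ker (B v)) + 2 = finrank F R := by
  set D := B u u * B v v - B u v ^ 2 with hD
  have hproj : ∀ y ∈ R, ∃ a b : F, y - (a • u + b • v) ∈ R ⊓ LinearMap.ker (B u) ⊓ LinearMap.ker (B v) := by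
    intro y hy
    refine ⟨(B v v * B u y - B u v * B v y) / D, (B u u * B v y - B u v * B u y) / D, ⟨?_, ?_⟩, ?_⟩
    · exact R.sub_mem hy (R.add_mem (R.smul_mem _ hu) (R.smul_mem _ hv))
    · simp only [SetLike.mem_coe, LinearMap.mem_ker, map_sub, map_add, map_smul, smul_eq_mul]
      field_simp
      rw [hD]; ring
    · simp only [SetLike.mem_coe, LinearMap.mem_ker, map_sub, map_add, map_smul, smul_eq_mul, hS v u]
      field_simp
      rw [hD]; ring
  refine ⟨fun x hx hall => hR x hx.1.1 fun y hy => ?_, ?_⟩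
  · obtain ⟨a, b, hab⟩ := hproj y hy
    have h := hall _ hab
    rw [map_sub, map_add, map_smul, map_smul, hS x u, hS x v, LinearMap.mem_ker.1 hx.1.2,
      LinearMap.mem_ker.1 hx.2, smul_zero, smul_zero, add_zero, sub_zero] at h
    exact h
  · let φ : R →ₗ[F] F × F := ((B u).prod (B v)).comp R.subtype
    have hsurj : LinearMap.range φ = ⊤ := LinearMap.range_eq_top.2 fun t => by
      refine ⟨⟨((B v v * t.1 - B u v * t.2) / D) • u + ((B u u * t.2 - B u v * t.1) / D) • v,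
        R.add_mem (R.smul_mem _ hu) (R.smul_mem _ hv)⟩, Prod.ext ?_ ?_⟩
      · show B u (_ + _) = t.1
        simp only [map_add, map_smul, smul_eq_mul]
        field_simp
        rw [hD]; ring
      · show B v (_ + _) = t.2
        simp only [map_add, map_smul, smul_eq_mul, hS v u]
        field_simp
        rw [hD]; ring
    have hk := LinearMap.finrank_range_add_finrank_ker φ
    rw [hsurj, finrank_top, Module.finrank_prod, Module.finrank_self] at hk
    have hker : LinearMap.ker φ = (R ⊓ LinearMap.ker (B u) ⊓ LinearMap.ker (B v)).comap R.subtype := by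
      ext x
      simp [φ, and_assoc]
    rw [hker, (Submodule.comapSubtypeEquivOfLe (inf_le_left.trans inf_le_left)).finrank_eq] at hk
    omega

lemma split_line {R : Submodule F V} (hR : NdOn B R) {τ : Module.End F V} {δ : F} (hδ : ¬ IsSquare δ)
    (hτ : IsSA B τ δ) (hinv : ∀ x ∈ R, τ x ∈ R) {w : V} (hw : w ∈ R) (hw0 : B w w ≠ 0 ∨ B w (τ w) ≠ 0) :
    NdOn B (R ⊓ LinearMap.ker (B w) ⊓ LinearMap.ker (B (τ w))) ∧
      finrank F ↥(R ⊓ LinearMap.ker (B w) ⊓ LinearMap.ker (B (τ w))) + 2 = finrank F R ∧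
      ∀ x ∈ R ⊓ LinearMap.ker (B w) ⊓ LinearMap.ker (B (τ w)),
        τ x ∈ R ⊓ LinearMap.ker (B w) ⊓ LinearMap.ker (B (τ w)) := by
  have hd : B w w * B (τ w) (τ w) - B w (τ w) ^ 2 ≠ 0 := by
    rw [hτ.adj w (τ w), hτ.sq, map_smul, smul_eq_mul]
    intro h
    exact nrm_ne_zero hδ hw0 (by rw [nrm]; linear_combination -h)
  obtain ⟨h1, h2⟩ := split hS hR hw (hinv w hw) hd
  refine ⟨h1, h2, fun x hx => ⟨⟨hinv x hx.1.1, ?_⟩, ?_⟩⟩
  · show τ x ∈ LinearMap.ker (B w)
    rw [LinearMap.mem_ker, ← hτ.adj]; exact hx.2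
  · show τ x ∈ LinearMap.ker (B (τ w))
    rw [LinearMap.mem_ker, ← hτ.adj, hτ.sq, map_smul, LinearMap.smul_apply, LinearMap.mem_ker.1 hx.1.2, smul_zero]

set_option maxHeartbeats 800000 in
/-- In dimension at least four every value occurs. -/
lemma exists_value [Fintype F] (h2 : (2 : F) ≠ 0) {R : Submodule F V} (hR : NdOn B R) {τ : Module.End F V} {δ : F}
    (hδ : ¬ IsSquare δ) (hτ : IsSA B τ δ) (hinv : ∀ x ∈ R, τ x ∈ R) (hdim : 4 ≤ finrank F R) {c e : F}
    (hce : c ≠ 0 ∨ e ≠ 0) : ∃ w ∈ R, B w w = c ∧ B w (τ w) = e := by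
  have hδ0 : δ ≠ 0 := fun h => hδ (h ▸ IsSquare.zero)
  have hne : R ≠ ⊥ := fun h => by rw [h, finrank_bot] at hdim; omega
  obtain ⟨w₁, hw₁, h₁⟩ := exists_aniso hS h2 hR hne
  obtain ⟨hnd, hdim', -⟩ := split_line hS hR hδ hτ hinv hw₁ (Or.inl h₁)
  obtain ⟨w₂, hw₂, h₂⟩ := exists_aniso hS h2 hnd (fun h => by rw [h, finrank_bot] at hdim'; omega)
  set N := nrm δ c e with hNdef
  have hN : N ≠ 0 := nrm_ne_zero hδ hce
  have hN₁ := nrm_ne_zero (e := B w₁ (τ w₁)) hδ (Or.inl h₁)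
  have hN₂ := nrm_ne_zero (e := B w₂ (τ w₂)) hδ (Or.inl h₂)
  have hmem : ∀ w ∈ R, ∀ a b : F, a • w + b • τ w ∈ R := fun w hw a b =>
    R.add_mem (R.smul_mem _ hw) (R.smul_mem _ (hinv w hw))
  by_cases hs₁ : IsSquare (N * nrm δ (B w₁ w₁) (B w₁ (τ w₁)))
  · obtain ⟨a, b, ha, hb⟩ := exists_scale hS h2 hδ hτ (Or.inl h₁) hs₁
    exact ⟨_, hmem _ hw₁ a b, ha, hb⟩
  by_cases hs₂ : IsSquare (N * nrm δ (B w₂ w₂) (B w₂ (τ w₂)))
  · obtain ⟨a, b, ha, hb⟩ := exists_scale hS h2 hδ hτ (Or.inl h₂) hs₂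
    exact ⟨_, hmem _ hw₂.1.1 a b, ha, hb⟩
  have h12 : IsSquare (nrm δ (B w₁ w₁) (B w₁ (τ w₁)) * nrm δ (B w₂ w₂) (B w₂ (τ w₂))) := by
    rw [isSquare_mul_iff hN hN₁] at hs₁
    rw [isSquare_mul_iff hN hN₂] at hs₂
    rw [isSquare_mul_iff hN₁ hN₂]
    tauto
  obtain ⟨a, b, ha, hb⟩ := exists_scale hS h2 hδ hτ (Or.inl h₂) h12
  set v₂ := a • w₂ + b • τ w₂ with hv₂
  obtain ⟨⟨hw₂R, h21⟩, h22⟩ := hw₂
  rw [SetLike.mem_coe, LinearMap.mem_ker] at h21
  rw [SetLike.mem_coe, LinearMap.mem_ker] at h22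
  have ho1 : B w₁ v₂ = 0 := by
    rw [hv₂, map_add, map_smul, map_smul, h21, ← hτ.adj, h22, smul_zero, smul_zero, add_zero]
  have ho2 : B (τ w₁) v₂ = 0 := by
    rw [hv₂, map_add, map_smul, map_smul, h22, hτ.adj, hτ.sq, map_smul, h21]
    simp
  -- `ρ` of non-square norm is a sum of two squares
  obtain ⟨s, r, hrs⟩ := exists_nrm_eq h2 hδ0 δ
  have hρ : ¬ IsSquare (r ^ 2 - δ * s ^ 2) := by rw [← nrm, hrs]; exact hδ
  obtain ⟨j₀, j₁, hjr, hjs⟩ : ∃ j₀ j₁ : F, j₀ ^ 2 + δ * j₁ ^ 2 = -1 ∧ 2 * j₀ * j₁ = 0 := by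
    by_cases hm : IsSquare (-1 : F)
    · obtain ⟨j, hj⟩ := hm
      exact ⟨j, 0, by linear_combination -hj, by ring⟩
    · obtain ⟨l, hl⟩ := (isSquare_mul_iff (neg_ne_zero.2 one_ne_zero) hδ0).2 (iff_of_false hm hδ)
      refine ⟨0, l / δ, ?_, by ring⟩
      field_simp
      linear_combination -hl
  -- `k₁ = (ρ + 1) / 2`, `k₂ = j (ρ - 1) / 2`
  set a₁ := (r + 1) / 2 with ha₁
  set b₁ := s / 2 with hb₁
  set a₂ := j₀ * ((r - 1) / 2) + δ * j₁ * (s / 2) with ha₂
  set b₂ := j₀ * (s / 2) + j₁ * ((r - 1) / 2) with hb₂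
  set z := a₁ • w₁ + b₁ • τ w₁ + (a₂ • v₂ + b₂ • τ v₂) with hz
  have ho3 : B w₁ (τ v₂) = 0 := by rw [← hτ.adj]; exact ho2
  have ho4 : B (τ w₁) (τ v₂) = 0 := by rw [hτ.adj, hτ.sq, map_smul, ho1, smul_zero]
  have hzR : z ∈ R := R.add_mem (hmem _ hw₁ _ _) (hmem _ (hmem _ hw₂R _ _) _ _)
  obtain ⟨hc1, he1⟩ := values_comb hS hτ w₁ a₁ b₁
  obtain ⟨hc2, he2⟩ := values_comb hS hτ v₂ a₂ b₂
  rw [ha, hb] at hc2 he2
  have hcross : ∀ x y, (x = w₁ ∨ x = τ w₁) → (y = v₂ ∨ y = τ v₂) → B x y = 0 ∧ B y x = 0 := by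
    intro x y hx hy
    rw [hS y x, and_self]
    rcases hx with rfl | rfl <;> rcases hy with rfl | rfl <;> assumption
  have hX : ∀ x y, (∃ a b : F, x = a • w₁ + b • τ w₁) → (∃ a b : F, y = a • v₂ + b • τ v₂) → B x y = 0 ∧ B y x = 0 := by
    rintro x y ⟨a, b, rfl⟩ ⟨a', b', rfl⟩
    rw [hS (a' • v₂ + b' • τ v₂), and_self]
    simp [map_add, map_smul, ho1, ho2, ho3, ho4]
  have hτc : ∀ (w : V) (a b : F), τ (a • w + b • τ w) = (b * δ) • w + a • τ w := fun w a b => by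
    rw [map_add, map_smul, map_smul, hτ.sq, smul_smul, add_comm]
  have hexp : ∀ x y x' y', B (x + y) (x' + y') = B x x' + B x y' + (B y x' + B y y') := fun x y x' y' => by
    simp only [map_add, LinearMap.add_apply]; ring
  have hτz : τ z = τ (a₁ • w₁ + b₁ • τ w₁) + τ (a₂ • v₂ + b₂ • τ v₂) := by rw [hz, map_add τ (a₁ • w₁ + b₁ • τ w₁)]
  have hzc : B z z = r * B w₁ w₁ + s * B w₁ (τ w₁) := by
    rw [hz, hexp,
      (hX _ _ ⟨a₁, b₁, rfl⟩ ⟨a₂, b₂, rfl⟩).1, (hX _ _ ⟨a₁, b₁, rfl⟩ ⟨a₂, b₂, rfl⟩).2, hc1, hc2, ha₁, hb₁, ha₂, hb₂]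
    field_simp
    linear_combination ((r - 1) ^ 2 * B w₁ w₁ + δ * s ^ 2 * B w₁ w₁ + 2 * s * (r - 1) * B w₁ (τ w₁)) * hjr +
      (2 * δ * s * (r - 1) * B w₁ w₁ + (δ * s ^ 2 + (r - 1) ^ 2) * B w₁ (τ w₁)) * hjs
  have hze : B z (τ z) = r * B w₁ (τ w₁) + s * δ * B w₁ w₁ := by
    rw [hτz, hz, hexp,
      (hX _ _ ⟨a₁, b₁, rfl⟩ ⟨_, _, hτc v₂ a₂ b₂⟩).1, (hX _ _ ⟨_, _, hτc w₁ a₁ b₁⟩ ⟨a₂, b₂, rfl⟩).2, he1, he2, ha₁, hb₁, ha₂, hb₂]
    field_simp
    linear_combination ((r - 1) ^ 2 * B w₁ (τ w₁) + δ * s ^ 2 * B w₁ (τ w₁) + 2 * δ * s * (r - 1) * B w₁ w₁) * hjr +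
      (2 * δ * s * (r - 1) * B w₁ (τ w₁) + δ * (δ * s ^ 2 + (r - 1) ^ 2) * B w₁ w₁) * hjs
  have hnz : nrm δ (B z z) (B z (τ z)) = (r ^ 2 - δ * s ^ 2) * nrm δ (B w₁ w₁) (B w₁ (τ w₁)) := by
    rw [hzc, hze, nrm, nrm]; ring
  have hρ0 : r ^ 2 - δ * s ^ 2 ≠ 0 := fun h => hρ (h ▸ IsSquare.zero)
  have hzne : B z z ≠ 0 ∨ B z (τ z) ≠ 0 := by
    by_contra h
    push Not at h
    have : nrm δ (B z z) (B z (τ z)) = 0 := by rw [nrm, h.1, h.2]; ring
    rw [hnz] at this
    exact mul_ne_zero hρ0 hN₁ this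
  have hsq : IsSquare (N * nrm δ (B z z) (B z (τ z))) := by
    rw [hnz, isSquare_mul_iff hN (mul_ne_zero hρ0 hN₁), isSquare_mul_iff hρ0 hN₁]
    rw [isSquare_mul_iff hN hN₁] at hs₁
    tauto
  obtain ⟨a', b', ha', hb'⟩ := exists_scale hS h2 hδ hτ hzne hsq
  exact ⟨_, hmem _ hzR a' b', ha', hb'⟩

/-- An orthogonal family of lines over the extension field. -/
lemma exists_kfamily [Fintype F] (h2 : (2 : F) ≠ 0) {τ : Module.End F V} {δ : F} (hδ : ¬ IsSquare δ) (hτ : IsSA B τ δ) :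
    ∀ (m : ℕ) {R : Submodule F V}, NdOn B R → (∀ x ∈ R, τ x ∈ R) → finrank F R = 2 * (m + 1) →
      ∃ u : Fin (m + 1) → V, (∀ i, u i ∈ R) ∧ (∀ i j, i ≠ j → B (u i) (u j) = 0 ∧ B (u i) (τ (u j)) = 0) ∧
        (∀ i, i ≠ Fin.last m → B (u i) (u i) = 0 ∧ B (u i) (τ (u i)) = 1) ∧
        B (u (Fin.last m)) (u (Fin.last m)) ≠ 0 := by
  intro m
  induction m with
  | zero =>
    intro R hR _ hdim
    obtain ⟨w, hw, hw0⟩ := exists_aniso hS h2 hR (fun h => by rw [h, finrank_bot] at hdim; omega)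
    exact ⟨fun _ => w, fun _ => hw, fun i j h => absurd (Fin.ext (by omega)) h,
      fun i h => absurd (Fin.ext (by rw [Fin.val_last]; omega)) h, hw0⟩
  | succ m ih =>
    intro R hR hinv hdim
    obtain ⟨w, hw, hwc, hwe⟩ := exists_value hS h2 hR hδ hτ hinv (by omega) (c := 0) (e := 1) (Or.inr one_ne_zero)
    obtain ⟨hnd, hdim', hinv'⟩ := split_line hS hR hδ hτ hinv hw (Or.inr (by rw [hwe]; exact one_ne_zero))
    obtain ⟨u, huR, huo, huv, hul⟩ := ih hnd hinv' (by omega)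
    have hw1 : ∀ j, B w (u j) = 0 ∧ B w (τ (u j)) = 0 := fun j =>
      ⟨(huR j).1.2, by rw [← hτ.adj]; exact (huR j).2⟩
    refine ⟨Fin.cons w u, Fin.cases hw fun i => (huR i).1.1, fun i j hij => ?_, fun i hi => ?_, ?_⟩
    · induction i using Fin.cases with
      | zero =>
        induction j using Fin.cases with
        | zero => exact absurd rfl hij
        | succ j => simpa using hw1 j
      | succ i =>
        induction j using Fin.cases with
        | zero =>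
          simp only [Fin.cons_succ, Fin.cons_zero]
          exact ⟨by rw [hS, (hw1 i).1], by rw [hS, hτ.adj, (hw1 i).2]⟩
        | succ j => simpa using huo i j fun h => hij (by rw [h])
    · induction i using Fin.cases with
      | zero => exact ⟨by simpa using hwc, by simpa using hwe⟩
      | succ i => simpa using huv i fun h => hi (by rw [h, Fin.succ_last])
    · rw [← Fin.succ_last, Fin.cons_succ]; exact hul

/-- The family gives a basis. -/
lemma exists_basis_of_kfamily {τ : Module.End F V} {δ : F} (hδ : ¬ IsSquare δ) (hτ : IsSA B τ δ) {n : ℕ}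
    (hdim : finrank F V = 2 * n) {u : Fin n → V} (ho : ∀ i j, i ≠ j → B (u i) (u j) = 0 ∧ B (u i) (τ (u j)) = 0)
    (hne : ∀ i, B (u i) (u i) ≠ 0 ∨ B (u i) (τ (u i)) ≠ 0) :
    ∃ b : Basis (Fin 2 × Fin n) F V, (∀ i, b (0, i) = u i ∧ b (1, i) = τ (u i)) ∧
      (LinearMap.BilinForm.toMatrix b B).det = (-1) ^ n * ∏ i, nrm δ (B (u i) (u i)) (B (u i) (τ (u i))) := by
  set f : Fin 2 × Fin n → V := fun x => ![u x.2, τ (u x.2)] x.1 with hf
  let M : Fin n → Matrix (Fin 2) (Fin 2) F := fun i =>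
    !![B (u i) (u i), B (u i) (τ (u i)); B (u i) (τ (u i)), δ * B (u i) (u i)]
  have hG : ∀ x y, B (f x) (f y) = Matrix.blockDiagonal M x y := by
    rintro ⟨s, i⟩ ⟨t, j⟩
    rw [Matrix.blockDiagonal_apply]
    by_cases hij : i = j
    · subst hij
      fin_cases s <;> fin_cases t <;> simp [hf, M, hτ.adj, hS (τ (u i)) (u i), hτ.sq]
    · rw [if_neg hij]
      obtain ⟨h1, h2⟩ := ho i j hij
      fin_cases s <;> fin_cases t <;> simp [hf, h1, h2, hτ.adj, hτ.sq]
  have hdetM : (Matrix.blockDiagonal M).det = (-1) ^ n * ∏ i, nrm δ (B (u i) (u i)) (B (u i) (τ (u i))) := by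
    rw [Matrix.det_blockDiagonal]
    have : ∀ i, (M i).det = -1 * nrm δ (B (u i) (u i)) (B (u i) (τ (u i))) := fun i => by
      simp only [M, Matrix.det_fin_two_of, nrm]; ring
    rw [Finset.prod_congr rfl fun i _ => this i, Finset.prod_mul_distrib, Finset.prod_const, Finset.card_univ,
      Fintype.card_fin]
  have hMne : (Matrix.blockDiagonal M).det ≠ 0 := by
    rw [hdetM]
    exact mul_ne_zero (pow_ne_zero _ (neg_ne_zero.2 one_ne_zero))
      (Finset.prod_ne_zero_iff.2 fun i _ => nrm_ne_zero hδ (hne i))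
  have hli : LinearIndependent F f := Fintype.linearIndependent_iff.2 fun g hg => by
    have h : Matrix.vecMul g (Matrix.blockDiagonal M) = 0 := funext fun y => by
      have := congrArg (fun v => B v (f y)) hg
      simpa [Matrix.vecMul, dotProduct, ← hG] using this
    exact congrFun (Matrix.eq_zero_of_vecMul_eq_zero hMne h)
  have hspan := hli.span_eq_top_of_card_eq_finrank' (by simp [hdim])
  refine ⟨Basis.mk hli hspan.ge, fun i => ⟨by simp [hf], by simp [hf]⟩, ?_⟩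
  rw [← hdetM]
  congr 1
  ext x y
  simp [LinearMap.BilinForm.toMatrix_apply, hG]

/-- A basis with prescribed last value. -/
theorem exists_normal [Fintype F] (h2 : (2 : F) ≠ 0) (hB : ∀ x, (∀ y, B x y = 0) → x = 0) {τ : Module.End F V} {δ : F}
    (hδ : ¬ IsSquare δ) (hτ : IsSA B τ δ) {m : ℕ} (hdim : finrank F V = 2 * (m + 1))
    {κ : Type*} [Fintype κ] [DecidableEq κ] (b₀ : Basis κ F V) {c e : F} (hce : c ≠ 0 ∨ e ≠ 0)
    (hsq : IsSquare ((-1) ^ (m + 1) * nrm δ c e * (LinearMap.BilinForm.toMatrix b₀ B).det)) :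
    ∃ u : Fin (m + 1) → V, ∃ b : Basis (Fin 2 × Fin (m + 1)) F V, (∀ i, b (0, i) = u i ∧ b (1, i) = τ (u i)) ∧
      (∀ i j, i ≠ j → B (u i) (u j) = 0 ∧ B (u i) (τ (u j)) = 0) ∧
      (∀ i, B (u i) (u i) = (if i = Fin.last m then c else 0) ∧
        B (u i) (τ (u i)) = if i = Fin.last m then e else 1) := by
  obtain ⟨u, -, huo, huv, hul⟩ := exists_kfamily hS h2 hδ hτ m (R := ⊤)
    (fun x _ h => hB x fun y => h y Submodule.mem_top) (fun _ _ => Submodule.mem_top) (by rw [finrank_top, hdim])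
  have hne : ∀ i, B (u i) (u i) ≠ 0 ∨ B (u i) (τ (u i)) ≠ 0 := fun i => by
    by_cases hi : i = Fin.last m
    · subst hi; exact Or.inl hul
    · exact Or.inr (by rw [(huv i hi).2]; exact one_ne_zero)
  obtain ⟨b, -, hdet⟩ := exists_basis_of_kfamily hS hδ hτ hdim huo hne
  set L := Fin.last m
  have hprod : ∏ i, nrm δ (B (u i) (u i)) (B (u i) (τ (u i))) = nrm δ (B (u L) (u L)) (B (u L) (τ (u L))) := by
    refine Finset.prod_eq_single _ (fun i _ hi => ?_) (by simp)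
    rw [(huv i hi).1, (huv i hi).2, nrm]; ring
  rw [hprod] at hdet
  obtain ⟨t, ht, hb⟩ : ∃ t : F, t ≠ 0 ∧ (LinearMap.BilinForm.toMatrix b₀ B).det =
      t ^ 2 * (LinearMap.BilinForm.toMatrix b B).det := by
    let e' : Fin 2 × Fin (m + 1) ≃ κ := b.indexEquiv b₀
    let b' := b₀.reindex e'.symm
    have h0 : LinearMap.BilinForm.toMatrix b₀ B = (LinearMap.BilinForm.toMatrix b' B).submatrix e'.symm e'.symm := by
      ext i j
      simp [b', LinearMap.BilinForm.toMatrix_apply]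
    rw [h0, Matrix.det_submatrix_equiv_self, ← LinearMap.BilinForm.toMatrix_mul_basis_toMatrix b b' B,
      Matrix.det_mul, Matrix.det_mul, Matrix.det_transpose]
    refine ⟨(b.toMatrix b').det, fun h0 => ?_, by ring⟩
    have h1 := congrArg Matrix.det (b.toMatrix_mul_toMatrix_flip b')
    rw [Matrix.det_mul, h0, zero_mul, Matrix.det_one] at h1
    exact zero_ne_one h1
  have hs : IsSquare (nrm δ c e * nrm δ (B (u L) (u L)) (B (u L) (τ (u L)))) := by
    obtain ⟨z, hz⟩ := hsq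
    rw [hb, hdet] at hz
    refine ⟨z / t, ?_⟩
    field_simp
    have h1 : ((-1 : F) ^ (m + 1)) * (-1) ^ (m + 1) = 1 := by rw [← mul_pow]; simp
    linear_combination hz - (t ^ 2 * nrm δ c e * nrm δ (B (u L) (u L)) (B (u L) (τ (u L)))) * h1
  obtain ⟨a, a', ha, ha'⟩ := exists_scale hS h2 hδ hτ (hne L) hs
  set w := a • u L + a' • τ (u L) with hw
  have ho1 : ∀ j, j ≠ L → B w (u j) = 0 ∧ B w (τ (u j)) = 0 := fun j hj => by
    obtain ⟨h1, h2'⟩ := huo L j (Ne.symm hj)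
    constructor <;>
      simp [hw, map_add, map_smul, LinearMap.add_apply, LinearMap.smul_apply, h1, h2', hτ.adj, hτ.sq]
  set u' := Function.update u L w with hu'
  have hvals : ∀ i, B (u' i) (u' i) = (if i = L then c else 0) ∧ B (u' i) (τ (u' i)) = if i = L then e else 1 := by
    intro i
    by_cases hi : i = L
    · subst hi; simp [hu', ha, ha']
    · simp [hu', hi, huv i hi]
  have ho : ∀ i j, i ≠ j → B (u' i) (u' j) = 0 ∧ B (u' i) (τ (u' j)) = 0 := by
    intro i j hij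
    by_cases hi : i = L
    · subst hi; simpa [hu', Ne.symm hij] using ho1 j (Ne.symm hij)
    · by_cases hj : j = L
      · subst hj
        simp only [hu', Function.update_self, Function.update_of_ne hi]
        exact ⟨by rw [hS, (ho1 i hi).1], by rw [hS, hτ.adj, (ho1 i hi).2]⟩
      · simpa [hu', hi, hj] using huo i j hij
  obtain ⟨b', hb', -⟩ := exists_basis_of_kfamily hS hδ hτ hdim ho (fun i => by
    rw [(hvals i).1, (hvals i).2]
    split_ifs
    · exact hce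
    · exact Or.inr one_ne_zero)
  exact ⟨u', b', hb', ho, hvals⟩

/-- All such operators are conjugate under the isometries. -/
theorem exists_conj [Fintype F] (h2 : (2 : F) ≠ 0) (hB : ∀ x, (∀ y, B x y = 0) → x = 0) {τ τ' : Module.End F V} {δ : F}
    (hδ : ¬ IsSquare δ) (hτ : IsSA B τ δ) (hτ' : IsSA B τ' δ) {m : ℕ} (hdim : finrank F V = 2 * (m + 1)) :
    ∃ g : V ≃ₗ[F] V, (∀ x y, B (g x) (g y) = B x y) ∧ ∀ x, g (τ x) = τ' (g x) := by
  classical
  let b₀ := Module.finBasis F V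
  set D := (-1 : F) ^ (m + 1) * (LinearMap.BilinForm.toMatrix b₀ B).det with hD
  obtain ⟨c, e, hce⟩ := exists_nrm_eq h2 (fun h : δ = 0 => hδ (h ▸ IsSquare.zero)) D
  have hD0 : D ≠ 0 := mul_ne_zero (pow_ne_zero _ (neg_ne_zero.2 one_ne_zero))
    ((LinearMap.BilinForm.nondegenerate_iff_det_ne_zero b₀).1
      ⟨hB, fun x hx => hB x fun y => by rw [hS]; exact hx y⟩)
  have hce0 : c ≠ 0 ∨ e ≠ 0 := by
    by_contra h
    push Not at h
    rw [h.1, h.2, nrm] at hce
    exact hD0 (by rw [← hce]; ring)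
  have hsq : IsSquare ((-1) ^ (m + 1) * nrm δ c e * (LinearMap.BilinForm.toMatrix b₀ B).det) :=
    ⟨D, by rw [hce, hD]; ring⟩
  obtain ⟨u, b, hb, ho, hv⟩ := exists_normal hS h2 hB hδ hτ hdim b₀ hce0 hsq
  obtain ⟨u', b', hb', ho', hv'⟩ := exists_normal hS h2 hB hδ hτ' hdim b₀ hce0 hsq
  let g := b.equiv b' (Equiv.refl _)
  have hg : ∀ x, g (b x) = b' x := fun x => by simp [g]
  refine ⟨g, fun x y => ?_, fun x => ?_⟩
  · refine LinearMap.congr_fun₂ (?_ : LinearMap.compl₁₂ B g.toLinearMap g.toLinearMap = B) x y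
    refine b.ext fun p => b.ext fun q => ?_
    show B (g (b p)) (g (b q)) = B (b p) (b q)
    rw [hg, hg]
    obtain ⟨s, i⟩ := p
    obtain ⟨t, j⟩ := q
    fin_cases s <;> fin_cases t <;>
      simp only [Fin.zero_eta, Fin.mk_one, Fin.isValue, (hb _).1, (hb _).2, (hb' _).1, (hb' _).2, hτ.adj, hτ'.adj,
        hτ.sq, hτ'.sq, map_smul] <;>
      by_cases hij : i = j <;> simp [hij, ho i j, ho' i j, hv, hv']
  · refine LinearMap.congr_fun (b.ext (f₁ := g.toLinearMap ∘ₗ τ) (f₂ := τ' ∘ₗ g.toLinearMap) fun p => ?_) x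
    obtain ⟨s, i⟩ := p
    fin_cases s <;> simp only [LinearMap.comp_apply, LinearEquiv.coe_coe, Fin.zero_eta, Fin.mk_one, Fin.isValue, hg]
    · rw [(hb i).1, (hb' i).1, ← (hb i).2, hg, (hb' i).2]
    · rw [(hb i).2, hτ.sq, (hb' i).2, hτ'.sq, map_smul, ← (hb i).1, hg, (hb' i).1]

/-- Operators from orthogonal pairs. -/
theorem exists_sa_of_pairs [Fintype F] (h2 : (2 : F) ≠ 0) {ν : Type*} [Fintype ν] (b : Basis (Fin 2 × ν) F V)
    (hob : ∀ p q, p ≠ q → B (b p) (b q) = 0) (hne : ∀ p, B (b p) (b p) ≠ 0) (δ : F) :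
    ∃ τ : Module.End F V, IsSA B τ δ ∧ ∃ α β γ : ν → F,
      (∀ i, β i * B (b (1, i)) (b (1, i)) = γ i * B (b (0, i)) (b (0, i))) ∧
      ∀ i, τ (b (0, i)) = α i • b (0, i) + β i • b (1, i) ∧ τ (b (1, i)) = γ i • b (0, i) - α i • b (1, i) := by
  classical
  have hsol : ∀ i, ∃ α t : F, α ^ 2 + B (b (0, i)) (b (0, i)) * B (b (1, i)) (b (1, i)) * t ^ 2 = δ := fun i => by
    obtain ⟨t, α, h⟩ := exists_nrm_eq h2
      (neg_ne_zero.2 (mul_ne_zero (hne (0, i)) (hne (1, i)))) δ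
    exact ⟨α, t, by rw [nrm] at h; linear_combination h⟩
  choose α t hαt using hsol
  set β := fun i => B (b (0, i)) (b (0, i)) * t i with hβ
  set γ := fun i => B (b (1, i)) (b (1, i)) * t i with hγ
  let f : Fin 2 × ν → V := fun p =>
    ![α p.2 • b (0, p.2) + β p.2 • b (1, p.2), γ p.2 • b (0, p.2) - α p.2 • b (1, p.2)] p.1
  let τ := b.constr F f
  have e0 : ∀ i, τ (b (0, i)) = α i • b (0, i) + β i • b (1, i) := fun i => by simp [τ, f]
  have e1 : ∀ i, τ (b (1, i)) = γ i • b (0, i) - α i • b (1, i) := fun i => by simp [τ, f]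
  refine ⟨τ, ⟨fun x y => LinearMap.congr_fun₂ (?_ : LinearMap.compl₁₂ B τ LinearMap.id = LinearMap.compl₁₂ B LinearMap.id τ) x y,
    fun x => LinearMap.congr_fun (?_ : τ ∘ₗ τ = δ • LinearMap.id) x⟩, α, β, γ, fun i => by simp [hβ, hγ]; ring,
    fun i => ⟨e0 i, e1 i⟩⟩
  · refine b.ext fun p => b.ext fun q => ?_
    show B (τ (b p)) (b q) = B (b p) (τ (b q))
    obtain ⟨s, i⟩ := p
    obtain ⟨s', j⟩ := q
    by_cases hij : i = j
    · subst hij
      have h01 := hob (0, i) (1, i) (by simp)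
      have h10 := hob (1, i) (0, i) (by simp)
      fin_cases s <;> fin_cases s' <;> simp [e0, e1, map_add, map_sub, map_smul, h01, h10, hβ, hγ] <;> ring
    · have h0 : ∀ (a a' : Fin 2), B (b (a, i)) (b (a', j)) = 0 := fun a a' => hob _ _ (by simp [hij])
      fin_cases s <;> fin_cases s' <;> simp [e0, e1, map_add, map_sub, map_smul, h0]
  · refine b.ext fun p => ?_
    obtain ⟨s, i⟩ := p
    have h := hαt i
    fin_cases s <;>
      simp only [LinearMap.comp_apply, LinearMap.smul_apply, LinearMap.id_apply, Fin.zero_eta, Fin.mk_one,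
        Fin.isValue, e0, e1, map_add, map_sub, map_smul, ← h, hβ, hγ] <;> module

/-- Pairs `u, X u` for a skew square root of `-1`. -/
theorem exists_skew_pairs (h2 : (2 : F) ≠ 0) {X : Module.End F V} (hskew : ∀ u v, B (X u) v = - B u (X v))
    (hX2 : ∀ v, X (X v) = -v) :
    ∀ (R : Submodule F V), NdOn B R → (∀ x ∈ R, X x ∈ R) → ∃ (m : ℕ) (u : Fin m → V), finrank F R = 2 * m ∧
      (∀ i, u i ∈ R ∧ B (u i) (u i) ≠ 0) ∧ ∀ i j, i ≠ j → B (u i) (u j) = 0 ∧ B (u i) (X (u j)) = 0 := by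
  intro R
  induction hn : finrank F R using Nat.strong_induction_on generalizing R with
  | _ n ih =>
    intro hR hinv
    by_cases hbot : R = ⊥
    · exact ⟨0, Fin.elim0, by rw [← hn, hbot, finrank_bot], fun i => i.elim0, fun i => i.elim0⟩
    obtain ⟨w, hw, hw0⟩ := exists_aniso hS h2 hR hbot
    have hperp : B w (X w) = 0 := by
      have h := hskew w w
      rw [hS (X w) w] at h
      exact mul_left_cancel₀ h2 (by linear_combination h)
    have hXX : B (X w) (X w) = B w w := by rw [hskew, hX2, map_neg, neg_neg]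
    obtain ⟨hnd, hdim⟩ := split hS hR hw (hinv w hw) (by
      rw [hperp, hXX]; simpa using hw0)
    have hinv' : ∀ x ∈ R ⊓ LinearMap.ker (B w) ⊓ LinearMap.ker (B (X w)),
        X x ∈ R ⊓ LinearMap.ker (B w) ⊓ LinearMap.ker (B (X w)) := fun x hx => by
      refine ⟨⟨hinv x hx.1.1, ?_⟩, ?_⟩
      · show X x ∈ LinearMap.ker (B w)
        have := hskew w x
        rw [LinearMap.mem_ker.1 hx.2, eq_comm, neg_eq_zero] at this
        exact this
      · show X x ∈ LinearMap.ker (B (X w))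
        rw [LinearMap.mem_ker, hskew, hX2, map_neg, neg_neg]
        exact hx.1.2
    obtain ⟨m, u, hm, hmem, ho⟩ := ih _ (by omega) _ rfl hnd hinv'
    have hw1 : ∀ j, B w (u j) = 0 ∧ B w (X (u j)) = 0 := fun j => ⟨(hmem j).1.1.2, by
      have h := hskew w (u j)
      rw [show B (X w) (u j) = 0 from (hmem j).1.2, eq_comm, neg_eq_zero] at h
      exact h⟩
    refine ⟨m + 1, Fin.cons w u, by omega, Fin.cases ⟨hw, hw0⟩ fun i => ⟨(hmem i).1.1.1, (hmem i).2⟩, fun i j hij => ?_⟩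
    induction i using Fin.cases with
    | zero =>
      induction j using Fin.cases with
      | zero => exact absurd rfl hij
      | succ j => simpa using hw1 j
    | succ i =>
      induction j using Fin.cases with
      | zero =>
        simp only [Fin.cons_succ, Fin.cons_zero]
        refine ⟨by rw [hS, (hw1 i).1], ?_⟩
        rw [hS, hskew, (hw1 i).2, neg_zero]
      | succ j => simpa using ho i j fun h => hij (by rw [h])

end CfsgLib.OrthSelfAdj
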