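import Cfsg.Prelude.Def_GeometricClasses
import Cfsg.Agent.Lib.Maximal99.OrthSelfAdj.Pairs
import Cfsg.Agent.Lib.Maximal99.QuadStructure
import Cfsg.Agent.Lib.Geo.FieldTransvection

/-!
A quadratic field subalgebra of self-adjoint matrices: the square root of a non-square and the normaliser.
-/

set_option autoImplicit false

namespace CfsgLib.OrthSelfAdj

open Matrix

variable {F : Type*} [Field F] {ι : Type} [Fintype ι] [DecidableEq ι]

/-- The generator of a field subalgebra of degree two with its properties. -/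
structure IsModel (K : Subalgebra F (Matrix ι ι F)) (B : LinearMap.BilinForm F (ι → F)) (τ : Matrix ι ι F) (δ : F) :
    Prop where
  nonsq : ¬ IsSquare δ
  mem : τ ∈ K
  mul_self : τ * τ = δ • (1 : Matrix ι ι F)
  isSA : IsSA B (Matrix.toLin' τ) δ
  mem_iff : ∀ M, M ∈ K ↔ ∃ α β : F, M = α • (1 : Matrix ι ι F) + β • τ

lemma coeff_eq_zero [Nonempty ι] {δ : F} (hδ : ¬ IsSquare δ) {τ : Matrix ι ι F} (hτ : τ * τ = δ • (1 : Matrix ι ι F))
    {α β : F} (h : α • (1 : Matrix ι ι F) + β • τ = 0) : α = 0 ∧ β = 0 := by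
  have hβ : β = 0 := by
    by_contra hβ
    refine hδ ⟨-(β⁻¹ * α), ?_⟩
    have e : τ = (-(β⁻¹ * α)) • (1 : Matrix ι ι F) := by
      rw [neg_smul, mul_smul, ← smul_neg, eq_inv_smul_iff₀ hβ]
      exact eq_neg_of_add_eq_zero_right h
    rw [e, Matrix.smul_mul, Matrix.mul_smul, mul_one, smul_smul] at hτ
    exact (smul_left_injective F (one_ne_zero (α := Matrix ι ι F)) hτ).symm
  refine ⟨?_, hβ⟩
  rw [hβ, zero_smul, add_zero, smul_eq_zero] at h
  exact h.resolve_right one_ne_zero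

theorem exists_model (h2 : (2 : F) ≠ 0) {K : Subalgebra F (Matrix ι ι F)} (hK : Cfsg.Geo.IsFieldSubalgebra 2 K)
    {B : LinearMap.BilinForm F (ι → F)} (hKf : ∀ k ∈ K, ∀ u v : ι → F, B (k *ᵥ u) v = B u (k *ᵥ v)) :
    ∃ τ δ, IsModel K B τ δ := by
  obtain ⟨W, a, b, hWK, hirr, hWW, hmemK, -⟩ := CfsgLib.QuadStructure.exists_generator hK
  have h4 : (4 : F) ≠ 0 := by rw [show (4 : F) = 2 * 2 by norm_num]; exact mul_ne_zero h2 h2
  set τ : Matrix ι ι F := W - (a / 2) • 1 with hτ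
  set δ : F := a ^ 2 / 4 + b with hδ
  have hτK : τ ∈ K := K.sub_mem hWK (K.smul_mem K.one_mem _)
  have hτ2 : τ * τ = δ • (1 : Matrix ι ι F) := by
    rw [hτ]
    simp only [sub_mul, mul_sub, Matrix.smul_mul, Matrix.mul_smul, one_mul, mul_one, hWW, smul_smul, smul_sub,
      hδ, add_smul]
    rw [show a / 2 * (a / 2) = a ^ 2 / 4 by field_simp; ring]
    conv_lhs => rw [show a • W = (a / 2) • W + (a / 2) • W by rw [← add_smul]; congr 1; field_simp; ring]
    abel
  refine ⟨τ, δ, ?_, hτK, hτ2, ⟨fun u v => hKf τ hτK u v, fun v => ?_⟩, fun M => ?_⟩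
  · rintro ⟨s, hs⟩
    refine hirr (s + a / 2) ?_
    rw [hδ] at hs
    field_simp at hs ⊢
    linear_combination -hs
  · rw [Matrix.toLin'_apply, Matrix.toLin'_apply, Matrix.mulVec_mulVec, hτ2, Matrix.smul_mulVec, Matrix.one_mulVec]
  · rw [hmemK]
    constructor
    · rintro ⟨α, β, rfl⟩
      exact ⟨α + β * (a / 2), β, by rw [hτ]; module⟩
    · rintro ⟨α, β, rfl⟩
      exact ⟨α - β * (a / 2), β, by rw [hτ]; module⟩

/-- The normaliser consists of the maps commuting or anticommuting with the generator. -/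
theorem IsModel.mem_normalizer [Nonempty ι] (h2 : (2 : F) ≠ 0) {K : Subalgebra F (Matrix ι ι F)}
    {B : LinearMap.BilinForm F (ι → F)} {τ : Matrix ι ι F} {δ : F} (h : IsModel K B τ δ) (y : GL ι F) :
    y ∈ Cfsg.Geo.subalgebraNormalizer K ↔
      ∃ ε : F, ε * ε = 1 ∧ ∀ v, (y : Matrix ι ι F) *ᵥ (τ *ᵥ v) = ε • (τ *ᵥ ((y : Matrix ι ι F) *ᵥ v)) := by
  constructor
  · intro hy
    obtain ⟨α, β, hM⟩ := (h.mem_iff _).1 ((hy τ).1 h.mem)
    have hsq : ((y : Matrix ι ι F) * τ * ((y⁻¹ : GL ι F) : Matrix ι ι F)) *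
        ((y : Matrix ι ι F) * τ * ((y⁻¹ : GL ι F) : Matrix ι ι F)) = δ • (1 : Matrix ι ι F) := by
      calc _ = (y : Matrix ι ι F) * (τ * τ) * ((y⁻¹ : GL ι F) : Matrix ι ι F) := by
            simp only [mul_assoc]
            rw [← mul_assoc ((y⁻¹ : GL ι F) : Matrix ι ι F), Units.inv_mul, one_mul]
        _ = _ := by rw [h.mul_self]; simp
    rw [hM] at hsq
    have hc : (α ^ 2 + δ * β ^ 2 - δ) • (1 : Matrix ι ι F) + (2 * α * β) • τ = 0 := by
      simp only [add_mul, mul_add, Matrix.smul_mul, Matrix.mul_smul, one_mul, mul_one, h.mul_self, smul_smul] at hsq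
      rw [← sub_eq_zero] at hsq
      rw [← hsq]
      module
    obtain ⟨h1, h2'⟩ := coeff_eq_zero h.nonsq h.mul_self hc
    rcases mul_eq_zero.1 h2' with h3 | h3
    · have hα : α = 0 := (mul_eq_zero.1 h3).resolve_left h2
      subst hα
      refine ⟨β, mul_left_cancel₀ (fun h0 : δ = 0 => h.nonsq (h0 ▸ IsSquare.zero)) (by linear_combination h1), fun v => ?_⟩
      have e : (y : Matrix ι ι F) * τ = β • τ * y := by
        rw [zero_smul, zero_add] at hM
        rw [← hM, mul_assoc _ _ (y : Matrix ι ι F), Units.inv_mul, mul_one]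
      rw [Matrix.mulVec_mulVec, e, ← Matrix.mulVec_mulVec, Matrix.smul_mulVec]
    · exfalso
      subst h3
      exact h.nonsq ⟨α, by linear_combination -h1⟩
  · rintro ⟨ε, hε, hy⟩
    have hone : ∀ (y : GL ι F), (∀ v, (y : Matrix ι ι F) *ᵥ (τ *ᵥ v) = ε • (τ *ᵥ ((y : Matrix ι ι F) *ᵥ v))) →
        ∀ k ∈ K, (y : Matrix ι ι F) * k * ((y⁻¹ : GL ι F) : Matrix ι ι F) ∈ K := by
      intro y hy k hk
      obtain ⟨α, β, rfl⟩ := (h.mem_iff k).1 hk
      refine (h.mem_iff _).2 ⟨α, β * ε, ?_⟩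
      have e : (y : Matrix ι ι F) * τ = ε • τ * y := Matrix.toLin'.injective (LinearMap.ext fun v => by
        simp only [Matrix.toLin'_apply, ← Matrix.mulVec_mulVec, Matrix.smul_mulVec, hy])
      simp only [mul_add, add_mul, Matrix.mul_smul, Matrix.smul_mul, mul_one, e, mul_assoc, Units.mul_inv, smul_smul]
    intro k
    refine ⟨hone y hy k, fun hk => ?_⟩
    have := hone y⁻¹ (fun v => by
      have h0 := congrArg (fun u => ε • (((y⁻¹ : GL ι F) : Matrix ι ι F) *ᵥ u)) (hy (((y⁻¹ : GL ι F) : Matrix ι ι F) *ᵥ v))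
      simp only [Matrix.mulVec_smul, smul_smul, hε, one_smul] at h0
      simp only [Matrix.mulVec_mulVec, ← mul_assoc, Units.inv_mul, one_mul, mul_assoc, Units.mul_inv, mul_one] at h0
      simpa [Matrix.mulVec_mulVec, mul_assoc] using h0.symm) _ hk
    simpa [mul_assoc] using this

end CfsgLib.OrthSelfAdj
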